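import Cfsg.Agent.Lib.OrthSquareNine.Trace
import Mathlib.FieldTheory.Finite.Basic

/-!
The projection onto the factor algebras averaged over the cosets of the stabiliser; every element of an overgroup
without new radical elements lies in the stabiliser.
Owner: helper96.
-/

set_option autoImplicit false
set_option linter.unusedSectionVars false

namespace Cfsg.Agent.Lib.OrthSquareNine.Average

open Matrix Kronecker Cfsg.Agent.Lib.OrthSquareNine.O3 Cfsg.Agent.Lib.OrthSquareNine.Kron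
  Cfsg.Agent.Lib.OrthSquareNine.Fusion Cfsg.Agent.Lib.OrthSquareNine.Radical Cfsg.Agent.Lib.OrthSquareNine.Trace

/-- A sum over an invariant set with free action of the additive group lies where every orbit sum lies. -/
theorem sum_mem_of_free {A α W : Type*} [AddGroup A] [Fintype A] [DecidableEq α] [AddCommMonoid W]
    (act : A → α → α) (h0 : ∀ x, act 0 x = x) (hadd : ∀ a b x, act (a + b) x = act a (act b x))
    (f : α → W) (ρ : A → W → W) (hf : ∀ a x, f (act a x) = ρ a (f x)) (P : AddSubmonoid W)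
    (hP : ∀ w, ∑ a, ρ a w ∈ P) (s : Finset α) (hinv : ∀ a, ∀ x ∈ s, act a x ∈ s)
    (hfree : ∀ x ∈ s, ∀ a, act a x = x → a = 0) : ∑ x ∈ s, f x ∈ P := by
  classical
  induction s using Finset.strongInduction with
  | H s ih =>
    rcases s.eq_empty_or_nonempty with rfl | ⟨x, hx⟩
    · simp
    set O := Finset.univ.image fun a => act a x with hO
    have hOs : O ⊆ s := fun y hy => by
      obtain ⟨a, -, rfl⟩ := Finset.mem_image.1 hy
      exact hinv a x hx
    have hxO : x ∈ O := Finset.mem_image.2 ⟨0, Finset.mem_univ _, h0 x⟩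
    rw [← Finset.sum_sdiff hOs]
    refine add_mem (ih _ (Finset.sdiff_ssubset hOs ⟨x, hxO⟩) (fun a y hy => ?_)
      fun y hy => hfree y (Finset.mem_sdiff.1 hy).1) ?_
    · obtain ⟨hys, hyO⟩ := Finset.mem_sdiff.1 hy
      refine Finset.mem_sdiff.2 ⟨hinv a y hys, fun h => hyO ?_⟩
      obtain ⟨b, -, hb⟩ := Finset.mem_image.1 h
      refine Finset.mem_image.2 ⟨-a + b, Finset.mem_univ _, ?_⟩
      rw [hadd, hb, ← hadd, neg_add_cancel, h0]
    · rw [hO, Finset.sum_image]
      · simp only [hf]; exact hP _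
      · intro a _ b _ hab
        have hab' : act a x = act b x := hab
        have := hfree x hx (-b + a) (by rw [hadd, hab', ← hadd, neg_add_cancel, h0])
        exact (neg_add_eq_zero.1 this).symm

variable {F : Type*} [Field F] [Finite F]

local notation "M3" => Matrix (Fin 3) (Fin 3) F
local notation "M9" => Matrix (Fin 3 × Fin 3) (Fin 3 × Fin 3) F

variable {H : Submonoid (Matrix (Fin 3 × Fin 3) (Fin 3 × Fin 3) F)}

/-- The cosets of the stabiliser. -/
def setoid (D : Cfsg.Agent.Lib.OrthSquareNine.Kron.Data H) : Setoid H where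
  r g k := Str (a9 (g : M9) * (k : M9))
  iseqv :=
    { refl := fun g => by rw [show a9 (g : M9) * (g : M9) = 1 from D.iso _ g.2]; exact str_one
      symm := fun {g k} h => by simpa [a9_mul, a9_a9] using h.a9'
      trans := fun {g k l} h h' => by
        have := h.mul h'
        rwa [mul_assoc, ← mul_assoc (k : M9), (D.iso _ k.2).right, one_mul] at this }

/-- The set of cosets. -/
abbrev Cos (D : Cfsg.Agent.Lib.OrthSquareNine.Kron.Data H) := Quotient (setoid D)

/-- The projection transported to a coset. -/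
def psi (D : Cfsg.Agent.Lib.OrthSquareNine.Kron.Data H) : Cos D → M9 →ₗ[F] M9 :=
  Quotient.lift (fun g : H => (cj (g : M9)).comp (pr.comp (cj (a9 (g : M9))))) fun g k h => by
    refine LinearMap.ext fun Y => ?_
    simp only [LinearMap.comp_apply]
    have hs : Iso9 (a9 (g : M9) * (k : M9)) := (D.iso _ g.2).ad'.mul (D.iso _ k.2)
    have e : (k : M9) = (g : M9) * (a9 (g : M9) * (k : M9)) := by
      rw [← mul_assoc, (D.iso _ g.2).right, one_mul]
    generalize hz : a9 (g : M9) * (k : M9) = z at e hs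
    have hzs : Str z := hz ▸ h
    rw [e, a9_mul, cj_mul, cj_mul (a9 z), ← pr_cj hs hzs, cj_inv' hs]

theorem psi_mk (D : Cfsg.Agent.Lib.OrthSquareNine.Kron.Data H) (g : H) (Y : M9) :
    psi D (Quotient.mk (setoid D) g) Y = cj (g : M9) (pr (cj (a9 (g : M9)) Y)) := rfl

/-- Left translation of cosets. -/
def act (D : Cfsg.Agent.Lib.OrthSquareNine.Kron.Data H) (h : H) : Cos D → Cos D :=
  Quotient.map (fun g => h * g) fun g k hgk => by
    show Str (a9 ((h : M9) * (g : M9)) * ((h : M9) * (k : M9)))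
    rw [a9_mul, mul_assoc, ← mul_assoc (a9 (h : M9)), show a9 (h : M9) * (h : M9) = 1 from D.iso _ h.2, one_mul]
    exact hgk

theorem act_mul (D : Cfsg.Agent.Lib.OrthSquareNine.Kron.Data H) (h k : H) (x : Cos D) :
    act D (h * k) x = act D h (act D k x) := by
  induction x using Quotient.ind with
  | _ g => exact congrArg (Quotient.mk _) (mul_assoc h k g)

theorem act_one (D : Cfsg.Agent.Lib.OrthSquareNine.Kron.Data H) (x : Cos D) : act D 1 x = x := by
  induction x using Quotient.ind with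
  | _ g => exact congrArg (Quotient.mk _) (one_mul g)

theorem psi_act (D : Cfsg.Agent.Lib.OrthSquareNine.Kron.Data H) (h : H) (x : Cos D) (Y : M9) :
    psi D (act D h x) (cj (h : M9) Y) = cj (h : M9) (psi D x Y) := by
  induction x using Quotient.ind with
  | _ g =>
    show psi D (Quotient.mk _ (h * g)) _ = _
    rw [psi_mk, psi_mk, Submonoid.coe_mul, a9_mul, cj_mul, cj_mul, cj_inv (D.iso _ h.2)]

noncomputable instance (D : Cfsg.Agent.Lib.OrthSquareNine.Kron.Data H) : Fintype (Cos D) := Fintype.ofFinite _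

/-- The averaged projection. -/
noncomputable def T (D : Cfsg.Agent.Lib.OrthSquareNine.Kron.Data H) : M9 →ₗ[F] M9 := ∑ x, psi D x

theorem T_apply (D : Cfsg.Agent.Lib.OrthSquareNine.Kron.Data H) (Y : M9) : T D Y = ∑ x, psi D x Y := by
  simp [T]

theorem T_cj (D : Cfsg.Agent.Lib.OrthSquareNine.Kron.Data H) {h : M9} (hh : h ∈ H) (Y : M9) :
    T D (cj h Y) = cj h (T D Y) := by
  have key : ∀ a b : H, a * b = 1 → ∀ x, act D a (act D b x) = x := fun a b e x => by rw [← act_mul, e, act_one]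
  let σ : Cos D ≃ Cos D :=
    ⟨act D ⟨h, hh⟩, act D ⟨a9 h, D.inv h hh⟩,
      key _ _ (Subtype.ext (D.iso h hh)), key _ _ (Subtype.ext (D.iso h hh).right)⟩
  rw [T_apply, T_apply, map_sum]
  exact (Fintype.sum_equiv σ _ _ fun x => (psi_act D ⟨h, hh⟩ x Y).symm).symm

theorem sandwich (Z : M9) :
    ((nU * nU) ⊗ₖ (1 : M3)) * Z * ((nU * nU) ⊗ₖ (1 : M3)) = Matrix.single 0 2 (1 : F) ⊗ₖ blk Z 2 0 := by
  refine blk_ext fun i k => ?_
  rw [nU_sq, blk_mul, blk_mul, blk_mul, blk_mul, blk_kron]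
  fin_cases i <;> fin_cases k <;> simp [blk_kron, Matrix.single_apply]

/-- On fixed operators only the base coset contributes, up to a corner. -/
theorem T_fixed (D : Cfsg.Agent.Lib.OrthSquareNine.Kron.Data H) (hR : NoRad H) {Y : M9}
    (hY : ∀ a : F, cj (U a ⊗ₖ (1 : M3)) Y = Y) :
    ∃ B : M3, T D Y = pr Y + Matrix.single 0 2 (1 : F) ⊗ₖ B := by
  classical
  have := Fintype.ofFinite F
  have h2 := D.two
  let u : F → H := fun a => ⟨U a ⊗ₖ (1 : M3), (D.genA a).1⟩
  let o : Cos D := Quotient.mk _ 1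
  have hu : ∀ a b, u (a + b) = u a * u b := fun a b => Subtype.ext (by
    show _ = U a ⊗ₖ (1 : M3) * U b ⊗ₖ (1 : M3)
    rw [← mul_kronecker_mul, U_mul h2, mul_one])
  have hu0 : u 0 = 1 := Subtype.ext (by show U (0 : F) ⊗ₖ (1 : M3) = 1; rw [U_zero, one_kronecker_one])
  have ho : ∀ a, act D (u a) o = o := fun a => Quotient.sound (by
    show Str (a9 ((u a * 1 : H) : M9) * ((1 : H) : M9))
    rw [mul_one, Submonoid.coe_one, mul_one]
    exact (str_kron _ _).a9')
  let P : AddSubmonoid M9 :=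
    { carrier := {Z | ∃ B : M3, Matrix.single (0 : Fin 3) (2 : Fin 3) (1 : F) ⊗ₖ B = Z}
      add_mem' := fun {a b} ha hb => by
        obtain ⟨A, rfl⟩ := ha
        obtain ⟨B, rfl⟩ := hb
        exact ⟨A + B, kronecker_add _ _ _⟩
      zero_mem' := ⟨0, kronecker_zero _⟩ }
  have horb : ∀ Z : M9, ∑ a, cj (U a ⊗ₖ (1 : M3)) Z ∈ P := by
    intro Z
    set N : M9 := nU ⊗ₖ (1 : M3) with hN
    set Q : M9 := (nU * nU) ⊗ₖ (1 : M3) with hQ
    have e : ∀ a : F, cj (U a ⊗ₖ (1 : M3)) Z = Z + a • (N * Z - Z * N) +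
        a ^ 2 • ((1 / 2 : F) • (Q * Z + Z * Q) - N * Z * N) +
        a ^ 3 • ((1 / 2 : F) • (N * Z * Q - Q * Z * N)) + a ^ 4 • ((1 / 4 : F) • (Q * Z * Q)) := by
      intro a
      have h4 : (4 : F) ≠ 0 := by rw [show (4 : F) = 2 * 2 by norm_num]; exact mul_ne_zero h2 h2
      have eU : ∀ b : F, U b ⊗ₖ (1 : M3) = 1 + b • N + (b ^ 2 / 2) • Q := fun b => by
        rw [U_eq, add_kronecker, add_kronecker, smul_kronecker, smul_kronecker, one_kronecker_one]
      rw [cj_apply, a9_kron, ad_one, ad_U, eU, eU]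
      simp only [add_mul, mul_add, one_mul, mul_one, smul_mul_assoc, mul_smul_comm, smul_add, smul_sub, smul_smul]
      match_scalars <;> field_simp <;> ring
    have hs : ∀ n < 4, ∑ a : F, a ^ n = 0 := fun n hn => FiniteField.sum_pow_lt_card_sub_one F n (by
      have := D.five; rw [Nat.card_eq_fintype_card] at this; omega)
    simp only [e, Finset.sum_add_distrib, ← Finset.sum_smul, hs 2 (by norm_num), hs 3 (by norm_num), zero_smul,
      add_zero, Finset.sum_const]
    rw [show ∑ a : F, a = 0 by simpa using hs 1 (by norm_num), zero_smul, add_zero,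
      show (Finset.univ : Finset F).card • Z = 0 by
        rw [← Nat.cast_smul_eq_nsmul F, Finset.card_univ, FiniteField.cast_card_eq_zero, zero_smul],
      zero_add, sandwich, smul_smul, ← kronecker_smul]
    exact ⟨_, rfl⟩
  have hmem : ∑ x ∈ Finset.univ.erase o, psi D x Y ∈ P := by
    refine sum_mem_of_free (fun a x => act D (u a) x) (fun x => by show act D (u 0) x = x; rw [hu0, act_one])
      (fun a b x => by show act D (u (a + b)) x = _; rw [hu, act_mul])
      (fun x => psi D x Y) (fun a => cj (U a ⊗ₖ (1 : M3))) (fun a x => ?_) P horb _ (fun a x hx => ?_) ?_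
    · conv_lhs => arg 2; rw [← hY a]
      exact psi_act D (u a) x Y
    · refine Finset.mem_erase.2 ⟨fun e => (Finset.mem_erase.1 hx).1 ?_, Finset.mem_univ _⟩
      have := congrArg (act D (u (-a))) e
      rwa [← act_mul, ← hu, neg_add_cancel, hu0, act_one, ho] at this
    · intro x hx a hax
      by_contra ha
      refine (Finset.mem_erase.1 hx).1 ?_
      induction x using Quotient.ind with
      | _ g =>
        have h := (Quotient.exact hax : Str (a9 ((u a * g : H) : M9) * (g : M9))).a9'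
        rw [a9_mul, a9_a9] at h
        have hg : Str (g : M9) := str_of_fused D hR g.2 ha (by
          rw [cj_apply, a9_a9]; rwa [Submonoid.coe_mul, ← mul_assoc] at h)
        exact Quotient.sound (by show Str (a9 (g : M9) * ((1 : H) : M9)); rw [Submonoid.coe_one, mul_one]; exact hg.a9')
  obtain ⟨B, hB⟩ := hmem
  refine ⟨B, ?_⟩
  rw [T_apply, ← Finset.add_sum_erase _ _ (Finset.mem_univ o), ← hB]
  show psi D (Quotient.mk _ 1) Y + _ = _
  rw [psi_mk, Submonoid.coe_one, a9_one, cj_one, cj_one]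

/-- The averaged projection of a skew operator of the first factor. -/
theorem T_left (D : Cfsg.Agent.Lib.OrthSquareNine.Kron.Data H) (hR : NoRad H) {A : M3} (hA : ad A = -A) (S : M3) :
    T D (A ⊗ₖ S) = pr (A ⊗ₖ S) := by
  have h2 := D.two
  have hN : ∀ S : M3, T D ((nU : M3) ⊗ₖ S) = pr ((nU : M3) ⊗ₖ S) := by
    intro S
    set Y : M9 := (nU : M3) ⊗ₖ S with hY
    obtain ⟨B, hB⟩ := T_fixed D hR (Y := Y) fun a => by
      rw [hY, cj_kron, one_mul, ad_one, mul_one, ad_U]
      congr 1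
      ext i j
      fin_cases i <;> fin_cases j <;> simp [U, nU, Matrix.mul_apply, Fin.sum_univ_three]
    obtain ⟨c, hc, hc1⟩ : ∃ c : F, c ≠ 0 ∧ c ^ 2 ≠ 1 := by
      by_contra h
      push Not at h
      have := coeff_zero D.five 0 (-1) 0 1 0 fun s => by
        rcases eq_or_ne s 0 with rfl | hs
        · ring
        · linear_combination s * h s hs
      exact one_ne_zero this.2.2.2.1
    have hc2 : c ^ 2 ≠ 0 := pow_ne_zero 2 hc
    set t : M9 := tor (c ^ 2) ⊗ₖ (1 : M3) with ht
    set d : M9 := Matrix.single 0 2 (1 : F) ⊗ₖ B with hd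
    have e1 : cj t Y = c ^ 2 • Y := by
      rw [ht, hY, cj_kron, one_mul, ad_one, mul_one, ad_tor, tor_nU hc2, smul_kronecker]
    have e2 : cj t d = (c ^ 2) ^ 2 • d := by
      rw [ht, hd, cj_kron, one_mul, ad_one, mul_one, tor_single _ hc2, smul_kronecker]
    have hd0 : d = 0 := by
      have h := T_cj D (D.torA c hc) Y
      rw [e1, map_smul, hB, map_add, ← pr_cj (iso9_kron (iso_tor hc2) iso_one) (str_kron _ _), e1, map_smul,
        e2, smul_add, add_right_inj] at h
      have h' : (c ^ 2 * (1 - c ^ 2)) • d = 0 := by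
        rw [show c ^ 2 * (1 - c ^ 2) = c ^ 2 - (c ^ 2) ^ 2 by ring, sub_smul, h, sub_self]
      exact (smul_eq_zero_iff_right (mul_ne_zero hc2 (sub_ne_zero.2 (Ne.symm hc1)))).1 h'
    rw [hB, hd0, add_zero]
  let Z : AddSubgroup M3 :=
    { carrier := {A | ∀ S : M3, T D (A ⊗ₖ S) = pr (A ⊗ₖ S)}
      add_mem' := fun {a b} ha hb S => by rw [add_kronecker, map_add, map_add, ha S, hb S]
      zero_mem' := fun S => by rw [zero_kronecker, map_zero, map_zero]
      neg_mem' := fun {a} ha S => by rw [← neg_one_smul F a, smul_kronecker, map_smul, map_smul, ha S] }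
  refine (show A ∈ Z from skew_span h2 Z (fun x hx a ha S => ?_) (fun t S => ?_) hA) S
  · have e : (x * a * ad x) ⊗ₖ S = cj (x ⊗ₖ (1 : M3)) (a ⊗ₖ S) := by rw [cj_kron, one_mul, ad_one, mul_one]
    rw [e, T_cj D (D.left_mem hx), ha S, pr_cj (iso9_kron (iso_of_mem h2 hx) iso_one) (str_kron _ _)]
  · rw [← smul_nU_eq_sk, smul_kronecker, map_smul, map_smul, hN]

theorem T_swap (D : Cfsg.Agent.Lib.OrthSquareNine.Kron.Data H) (Y : M9) :
    T (swapped D) (cj sw Y) = cj sw (T D Y) := by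
  have hmem : ∀ g : H, (sw : M9) * (g : M9) * sw ∈ swH H := fun g => by
    rw [mem_swH, show (sw : M9) * (sw * (g : M9) * sw) * sw = (sw * sw) * (g : M9) * (sw * sw) by noncomm_ring, sw_sw,
      one_mul, mul_one]
    exact g.2
  have hs : ∀ g k : M9, a9 (sw * g * sw) * (sw * k * sw) = sw * (a9 g * k) * sw := fun g k => by
    rw [a9_mul, a9_mul, a9_sw, show sw * (a9 g * sw) * (sw * k * sw) = sw * (a9 g * (sw * sw) * k) * sw by
      noncomm_ring, sw_sw, mul_one]
  let f : Cos D → Cos (swapped D) := Quotient.map (fun g => ⟨_, hmem g⟩) fun g k h => by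
    show Str (a9 ((sw : M9) * (g : M9) * sw) * (sw * (k : M9) * sw))
    rw [hs]; exact (str_sw.mul h).mul str_sw
  let f' : Cos (swapped D) → Cos D := Quotient.map (fun g => ⟨_, g.2⟩) fun g k h => by
    show Str (a9 ((sw : M9) * (g : M9) * sw) * (sw * (k : M9) * sw))
    rw [hs]; exact (str_sw.mul h).mul str_sw
  have hcancel : ∀ g : M9, (sw : M9) * (sw * g * sw) * sw = g := fun g => by
    rw [show (sw : M9) * (sw * g * sw) * sw = (sw * sw) * g * (sw * sw) by noncomm_ring, sw_sw, one_mul, mul_one]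
  let σ : Cos D ≃ Cos (swapped D) := ⟨f, f',
    fun x => Quotient.inductionOn x fun g => congrArg (Quotient.mk _) (Subtype.ext (hcancel g)),
    fun x => Quotient.inductionOn x fun g => congrArg (Quotient.mk _) (Subtype.ext (hcancel g))⟩
  rw [T_apply, T_apply, map_sum]
  refine (Fintype.sum_equiv σ _ _ fun x => ?_).symm
  induction x using Quotient.ind with
  | _ g =>
    show _ = psi (swapped D) (Quotient.mk _ ⟨_, hmem g⟩) (cj sw Y)
    rw [psi_mk, psi_mk, a9_mul, a9_mul, a9_sw]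
    simp only [cj_mul]
    have cc : ∀ Z : M9, cj (sw : M9) (cj sw Z) = Z := fun Z => by rw [← cj_mul, sw_sw, cj_one]
    rw [cc, pr_cj iso9_sw str_sw, cc]

/-- The averaged projection agrees with the projection on skew operators. -/
theorem T_skew (D : Cfsg.Agent.Lib.OrthSquareNine.Kron.Data H) (hR : NoRad H) (hR' : NoRad (swH H)) {Y : M9}
    (hY : a9 Y = -Y) : T D Y = pr Y := by
  have h2 := D.two
  have right : ∀ (S : M3) {B : M3}, ad B = -B → T D (S ⊗ₖ B) = pr (S ⊗ₖ B) := by
    intro S B hB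
    have h := T_left (swapped D) hR' hB S
    rw [← cj_sw S B, T_swap, pr_cj iso9_sw str_sw] at h
    have := congrArg (cj (sw : M9)) h
    rwa [← cj_mul, ← cj_mul, sw_sw, cj_one, cj_one] at this
  let E : M9 →ₗ[F] M9 := T D - pr
  let Sk : M9 →ₗ[F] M9 :=
    { toFun := fun Z => Z - a9 Z
      map_add' := fun a b => by rw [a9_add]; abel
      map_smul' := fun c a => by rw [a9_smul, smul_sub]; rfl }
  have h0 : E.comp Sk = 0 := LinearMap.ext fun Z => ext_kron (f := E.comp Sk) (g := 0) (fun A B => by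
    have hA : ad (A - ad A) = -(A - ad A) := by rw [ad_sub, ad_ad, neg_sub]
    have hB : ad (B - ad B) = -(B - ad B) := by rw [ad_sub, ad_ad, neg_sub]
    have e : Sk (A ⊗ₖ B) =
        (1 / 2 : F) • ((A - ad A) ⊗ₖ (B + ad B) + (A + ad A) ⊗ₖ (B - ad B)) := by
      ext ⟨i, j⟩ ⟨k, l⟩
      show A i k * B j l - ad A i k * ad B j l = _
      simp [ad_apply]
      field_simp
      ring
    rw [LinearMap.comp_apply, e, map_smul, map_add]
    simp only [E, LinearMap.sub_apply, T_left D hR hA, right _ hB, sub_self, add_zero, smul_zero,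
      LinearMap.zero_apply]) Z
  have := congrArg (fun l : M9 →ₗ[F] M9 => l Y) h0
  simp only [LinearMap.comp_apply, LinearMap.zero_apply, Sk, LinearMap.coe_mk, AddHom.coe_mk, hY, sub_neg_eq_add] at this
  rw [← two_smul F Y, map_smul, smul_eq_zero_iff_right h2, LinearMap.sub_apply] at this
  exact sub_eq_zero.1 this

/-- Skew matrices commuting with a non-zero one commute. -/
theorem skew_commute (h2 : (2 : F) ≠ 0) {P A B : M3} (hP : ad P = -P) (hA : ad A = -A) (hB : ad B = -B)
    (hP0 : P ≠ 0) (h1 : P * A = A * P) (h3 : P * B = B * P) : A * B = B * A := by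
  rw [eq_sk h2 hP] at h1 h3 hP0
  rw [eq_sk h2 hA] at h1 ⊢
  rw [eq_sk h2 hB] at h3 ⊢
  generalize P 1 2 = x, P 1 0 = y, P 0 0 = z, A 1 2 = x', A 1 0 = y', A 0 0 = z', B 1 2 = x'', B 1 0 = y'',
    B 0 0 = z'' at h1 h3 hP0 ⊢
  have e : ∀ {x y z a b c : F}, sk x y z * sk a b c = sk a b c * sk x y z →
      x * b = y * a ∧ z * a = x * c ∧ y * c = z * b := by
    intro x y z a b c h
    have q1 := congrFun (congrFun h 0) 0
    have q2 := congrFun (congrFun h 1) 2
    have q3 := congrFun (congrFun h 1) 0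
    simp [sk, Matrix.mul_apply, Fin.sum_univ_three] at q1 q2 q3
    refine ⟨?_, ?_, ?_⟩
    · linear_combination -q1
    · linear_combination -q2
    · linear_combination q3
  obtain ⟨a1, a2, a3⟩ := e h1
  obtain ⟨b1, b2, b3⟩ := e h3
  have prop : ∀ {a b c : F}, x * b = y * a → z * a = x * c → y * c = z * b →
      ∃ l, a = l * x ∧ b = l * y ∧ c = l * z := by
    intro a b c e1 e2 e3
    rcases ne_or_eq x 0 with hx | hx
    · exact ⟨a / x, by field_simp, by field_simp; linear_combination e1, by field_simp; linear_combination -e2⟩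
    rcases ne_or_eq y 0 with hy | hy
    · exact ⟨b / y, by field_simp; linear_combination -e1, by field_simp, by field_simp; linear_combination e3⟩
    have hz : z ≠ 0 := fun hz => hP0 (by
      rw [hx, hy, hz]; ext i j; fin_cases i <;> fin_cases j <;> simp [sk])
    exact ⟨c / z, by field_simp; linear_combination e2, by field_simp; linear_combination -e3, by field_simp⟩
  obtain ⟨l, rfl, rfl, rfl⟩ := prop a1 a2 a3
  obtain ⟨m, rfl, rfl, rfl⟩ := prop b1 b2 b3
  ext i j
  fin_cases i <;> fin_cases j <;> simp [sk, Matrix.mul_apply, Fin.sum_univ_three] <;> ring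

/-- An overgroup without new radical elements lies in the stabiliser. -/
theorem str_all (D : Cfsg.Agent.Lib.OrthSquareNine.Kron.Data H) (hR : NoRad H) (hR' : NoRad (swH H)) {g : M9}
    (hg : g ∈ H) : Str g := by
  have h2 := D.two
  have hgi := D.iso g hg
  set E : M3 := Matrix.single 1 1 1 with hE
  have hEt : E.trace = 1 := by rw [hE, Matrix.trace_single_eq_same]
  have hEad : ad E = E := by
    ext i j; fin_cases i <;> fin_cases j <;> simp [hE, ad_apply, Fin.rev, Matrix.single_apply]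
  have htr : ∀ A : M3, ad A = -A → A.trace = 0 := fun A hA => by
    rw [eq_sk h2 hA]; simp [Matrix.trace, Fin.sum_univ_three, sk]
  -- images lie in the sum of the factor algebras
  have img : ∀ Y : M9, a9 Y = -Y → cj g (pr Y) = pr (cj g Y) := fun Y hY => by
    rw [← T_skew D hR hR' hY, ← T_cj D hg, T_skew D hR hR' (by rw [a9_cj, hY, map_neg])]
  have key : ∀ Y : M9, a9 Y = -Y → ∃ P Q : M3, ad P = -P ∧ ad Q = -Q ∧
      cj g (pr Y) = P ⊗ₖ (1 : M3) + (1 : M3) ⊗ₖ Q := fun Y hY => by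
    refine ⟨ptB (cj g Y), ptA (cj g Y), ?_, ?_, by rw [img Y hY, pr_apply]⟩
    · rw [← ptB_a9, a9_cj, hY, map_neg, ← neg_one_smul F, ptB_smul, neg_one_smul]
    · rw [← ptA_a9, a9_cj, hY, map_neg, ← neg_one_smul F, ptA_smul, neg_one_smul]
  have left : ∀ A : M3, ad A = -A → ∃ P Q : M3, ad P = -P ∧ ad Q = -Q ∧
      cj g (A ⊗ₖ (1 : M3)) = P ⊗ₖ (1 : M3) + (1 : M3) ⊗ₖ Q := fun A hA => by
    have := key (A ⊗ₖ E) (by rw [a9_kron, hA, hEad, ← neg_one_smul F A, smul_kronecker, neg_one_smul])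
    rwa [pr_kron, hEt, htr A hA, one_smul, zero_smul, add_zero] at this
  have right : ∀ A : M3, ad A = -A → ∃ P Q : M3, ad P = -P ∧ ad Q = -Q ∧
      cj g ((1 : M3) ⊗ₖ A) = P ⊗ₖ (1 : M3) + (1 : M3) ⊗ₖ Q := fun A hA => by
    have := key (E ⊗ₖ A) (by rw [a9_kron, hA, hEad, ← neg_one_smul F A, kronecker_smul, neg_one_smul])
    rwa [pr_kron, hEt, htr A hA, one_smul, zero_smul, zero_add] at this
  obtain ⟨P, Q, hP, hQ, e0⟩ := left nU ad_nU
  obtain ⟨P1, Q1, hP1, hQ1, e1⟩ := right nU ad_nU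
  obtain ⟨P2, Q2, hP2, hQ2, e2⟩ := right nL ad_nL
  have comm : ∀ {A B C D : M3}, (A ⊗ₖ (1 : M3) + (1 : M3) ⊗ₖ B) * (C ⊗ₖ (1 : M3) + (1 : M3) ⊗ₖ D) -
      (C ⊗ₖ (1 : M3) + (1 : M3) ⊗ₖ D) * (A ⊗ₖ (1 : M3) + (1 : M3) ⊗ₖ B) =
      (A * C - C * A) ⊗ₖ (1 : M3) + (1 : M3) ⊗ₖ (B * D - D * B) := fun {A B C D} => by
    ext ⟨i, j⟩ ⟨k, l⟩
    simp only [mul_add, add_mul, ← mul_kronecker_mul, one_mul, mul_one, Matrix.add_apply, Matrix.sub_apply,
      kroneckerMap_apply]
    ring
  have split : ∀ {A B : M3}, A.trace = 0 → B.trace = 0 → A ⊗ₖ (1 : M3) + (1 : M3) ⊗ₖ B = 0 → (3 : F) • A = 0 ∧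
      (3 : F) • B = 0 ∧ (∀ i j, i ≠ j → A i j = 0 ∧ B i j = 0) ∧ ∀ i j, A i i + B j j = 0 := fun {A B} hA hB h => by
    refine ⟨?_, ?_, fun i j hij => ⟨?_, ?_⟩, fun i j => ?_⟩
    · have := congrArg ptB h
      rwa [ptB_add, ptB_kron, ptB_kron, hB, zero_smul, add_zero, trace_one, Fintype.card_fin, show ptB (0 : M9) = 0 by ext; simp [ptB]] at this
    · have := congrArg ptA h
      rwa [ptA_add, ptA_kron, ptA_kron, hA, zero_smul, zero_add, trace_one, Fintype.card_fin, show ptA (0 : M9) = 0 by ext; simp [ptA]] at this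
    · simpa [Matrix.one_apply, hij] using congrFun (congrFun h (i, i)) (j, i)
    · simpa [Matrix.one_apply, hij] using congrFun (congrFun h (i, i)) (i, j)
    · simpa using congrFun (congrFun h (i, j)) (i, j)
  have vanish : ∀ {A B C D : M3}, ad A = -A → ad B = -B → ad C = -C → ad D = -D →
      (A ⊗ₖ (1 : M3) + (1 : M3) ⊗ₖ B) * (C ⊗ₖ (1 : M3) + (1 : M3) ⊗ₖ D) =
        (C ⊗ₖ (1 : M3) + (1 : M3) ⊗ₖ D) * (A ⊗ₖ (1 : M3) + (1 : M3) ⊗ₖ B) →
      A * C = C * A ∧ B * D = D * B := fun {A B C D} hA hB hC hD h => by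
    have h' := sub_eq_zero.2 h
    rw [comm] at h'
    obtain ⟨-, -, hoff, hdiag⟩ := split (by rw [trace_sub, trace_mul_comm, sub_self])
      (by rw [trace_sub, trace_mul_comm, sub_self]) h'
    have z : ∀ X Y : M3, ad X = -X → ad Y = -Y → (X * Y - Y * X) 1 1 = 0 := fun X Y hX hY => by
      rw [eq_sk h2 hX, eq_sk h2 hY]
      simp [sk, Matrix.mul_apply, Fin.sum_univ_three]
      ring
    refine ⟨sub_eq_zero.1 (Matrix.ext fun i j => ?_), sub_eq_zero.1 (Matrix.ext fun i j => ?_)⟩
    · rcases eq_or_ne i j with rfl | hij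
      · simpa [z B D hB hD] using hdiag i 1
      · exact (hoff i j hij).1
    · rcases eq_or_ne i j with rfl | hij
      · simpa [z A C hA hC] using hdiag 1 i
      · exact (hoff i j hij).2
  have cm : ∀ {Y Z : M9}, Y * Z = Z * Y → cj g Y * cj g Z = cj g Z * cj g Y := fun {Y Z} h => by
    rw [← cj_prod hgi, ← cj_prod hgi, h]
  have c01 := vanish hP hQ hP1 hQ1 (by
    rw [← e0, ← e1]; exact cm (by simp only [← mul_kronecker_mul, one_mul, mul_one]))
  have c02 := vanish hP hQ hP2 hQ2 (by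
    rw [← e0, ← e2]; exact cm (by simp only [← mul_kronecker_mul, one_mul, mul_one]))
  by_cases hcase : P = 0 ∨ Q = 0
  swap
  · exfalso
    push Not at hcase
    have h := congrArg (cj (a9 g)) (sub_eq_zero.1 ((comm (A := P1) (B := Q1) (C := P2) (D := Q2)).trans (by
      rw [skew_commute h2 hP hP1 hP2 hcase.1 c01.1 c02.1, skew_commute h2 hQ hQ1 hQ2 hcase.2 c01.2 c02.2, sub_self,
        sub_self, zero_kronecker, kronecker_zero, add_zero])))
    rw [← e1, ← e2, ← cj_prod hgi, ← cj_prod hgi, cj_inv hgi, cj_inv hgi, ← mul_kronecker_mul, ← mul_kronecker_mul,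
      mul_one] at h
    have := congrFun (congrFun h (0, 0)) (0, 0)
    simp [nU, nL, Matrix.mul_apply, Fin.sum_univ_three] at this
  have hu : U (1 : F) ⊗ₖ (1 : M3) = 1 + nU ⊗ₖ (1 : M3) + (1 / 2 : F) • ((nU ⊗ₖ (1 : M3)) * (nU ⊗ₖ (1 : M3))) := by
    rw [← mul_kronecker_mul, mul_one, U_eq, add_kronecker, add_kronecker, one_smul, smul_kronecker,
      one_kronecker_one, one_pow]
  have himg : cj g (U (1 : F) ⊗ₖ (1 : M3)) =
      1 + cj g (nU ⊗ₖ (1 : M3)) + (1 / 2 : F) • (cj g (nU ⊗ₖ (1 : M3)) * cj g (nU ⊗ₖ (1 : M3))) := by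
    rw [hu, map_add, map_add, cj_unit hgi, map_smul, cj_prod hgi]
  have hs : Str (cj g (U (1 : F) ⊗ₖ (1 : M3))) := by
    rcases hcase with rfl | rfl
    · refine ⟨1, 1 + Q + (1 / 2 : F) • (Q * Q), Or.inl ?_⟩
      rw [himg, e0, zero_kronecker, zero_add, ← mul_kronecker_mul, one_mul, kronecker_add, kronecker_add,
        kronecker_smul, one_kronecker_one]
    · refine ⟨1 + P + (1 / 2 : F) • (P * P), 1, Or.inl ?_⟩
      rw [himg, e0, kronecker_zero, add_zero, ← mul_kronecker_mul, mul_one, add_kronecker, add_kronecker,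
        smul_kronecker, one_kronecker_one]
  have := str_of_fused D hR (D.inv g hg) (one_ne_zero (α := F)) (by rwa [a9_a9])
  simpa [a9_a9] using this.a9'

end Cfsg.Agent.Lib.OrthSquareNine.Average
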