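import Cfsg.Agent.Lib.OrthSquareNine.Kron
import Cfsg.Agent.Lib.Subspaces.OrthLines

/-!
The quadratic form of the tensor square of the anti-diagonal form.
Owner: helper96.
-/

set_option autoImplicit false
set_option linter.unusedSectionVars false

namespace Cfsg.Agent.Lib.OrthSquareNine.Form

open Matrix Kronecker Cfsg.Agent.Lib.OrthSquareNine.O3 Cfsg.Agent.Lib.OrthSquareNine.Kron

variable {F : Type*} [Field F]

local notation "M3" => Matrix (Fin 3) (Fin 3) F
local notation "M9" => Matrix (Fin 3 × Fin 3) (Fin 3 × Fin 3) F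
local notation "V9" => (Fin 3 × Fin 3 → F)

/-- The index opposite under the form. -/
def rv (p : Fin 3 × Fin 3) : Fin 3 × Fin 3 := (p.1.rev, p.2.rev)

theorem rv_rv (p : Fin 3 × Fin 3) : rv (rv p) = p := by simp [rv]

/-- The exchange of opposite indices. -/
def rvE : Fin 3 × Fin 3 ≃ Fin 3 × Fin 3 := ⟨rv, rv, rv_rv, rv_rv⟩

/-- The quadratic form. -/
def Q9 (x : V9) : F := (∑ p, x p * x (rv p)) / 2

theorem polar_Q9 (h2 : (2 : F) ≠ 0) (x y : V9) :
    QuadraticMap.polar Q9 x y = ∑ p, x p * y (rv p) := by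
  have hs : ∑ p, y p * x (rv p) = ∑ p, x p * y (rv p) :=
    Fintype.sum_equiv rvE _ _ fun p => by simp [rvE, rv_rv, mul_comm]
  have e : ∑ p, (x + y) p * (x + y) (rv p) =
      (∑ p, x p * x (rv p)) + (∑ p, x p * y (rv p)) + (∑ p, y p * x (rv p)) + (∑ p, y p * y (rv p)) := by
    simp only [← Finset.sum_add_distrib]
    exact Finset.sum_congr rfl fun p _ => by simp only [Pi.add_apply]; ring
  simp only [QuadraticMap.polar, Q9, e, hs]
  field_simp
  ring

theorem polar_single (h2 : (2 : F) ≠ 0) (p : Fin 3 × Fin 3) (y : V9) :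
    QuadraticMap.polar Q9 (Pi.single p 1) y = y (rv p) := by
  rw [polar_Q9 h2]
  simp [Pi.single_apply]

theorem isNondeg (h2 : (2 : F) ≠ 0) :
    Cfsg.Geo.IsNondegenerateQuadraticForm (Q9 : V9 → F) := by
  refine ⟨fun c v => ?_, ⟨?_, ?_, ?_, ?_⟩, fun v hv => ?_⟩
  · simp only [Q9, Pi.smul_apply, smul_eq_mul, ← mul_div_assoc, Finset.mul_sum]
    exact congrArg (· / 2) (Finset.sum_congr rfl fun p _ => by ring)
  · intro x y v; simp only [polar_Q9 h2, Pi.add_apply, add_mul, Finset.sum_add_distrib]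
  · intro c x v; simp only [polar_Q9 h2, Pi.smul_apply, smul_eq_mul, Finset.mul_sum, mul_assoc]
  · intro v x y; simp only [polar_Q9 h2, Pi.add_apply, mul_add, Finset.sum_add_distrib]
  · intro c v x
    simp only [polar_Q9 h2, Pi.smul_apply, smul_eq_mul, Finset.mul_sum]
    exact Finset.sum_congr rfl fun p _ => by ring
  · obtain ⟨p, hp⟩ := Function.ne_iff.1 hv
    have e : QuadraticMap.polar Q9 (Pi.single (rv p) 1) v = v p := by rw [polar_single h2, rv_rv]
    exact ⟨⟨Pi.single (rv p) 1, by rw [e]; exact hp⟩, ⟨Pi.single (rv p) 1, by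
      rw [QuadraticMap.polar_comm, e]; exact hp⟩⟩

theorem polar_map (h2 : (2 : F) ≠ 0) (g : M9) (i j : Fin 3 × Fin 3) :
    QuadraticMap.polar Q9 (g *ᵥ Pi.single (rv i) 1) (g *ᵥ Pi.single j 1) = (a9 g * g) i j := by
  rw [polar_Q9 h2, Matrix.mul_apply, mulVec_single_one, mulVec_single_one]
  exact Fintype.sum_equiv rvE _ _ fun p => by simp [rvE, rv, a9, Matrix.col_apply]

theorem iso_preserves (h2 : (2 : F) ≠ 0) {g : M9} (hg : Iso9 g) (x : V9) : Q9 (g *ᵥ x) = Q9 x := by
  have e : ∑ p, (g *ᵥ x) p * (g *ᵥ x) (rv p) = ∑ p, x p * x (rv p) := by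
    have h := fun i j => congrFun (congrFun (show a9 g * g = 1 from hg) i) j
    calc ∑ p, (g *ᵥ x) p * (g *ᵥ x) (rv p)
        = ∑ p, ∑ k, ∑ l, x k * x l * (g p k * g (rv p) l) := by
          refine Finset.sum_congr rfl fun p _ => ?_
          simp only [mulVec, dotProduct, Finset.sum_mul_sum]
          exact Finset.sum_congr rfl fun k _ => Finset.sum_congr rfl fun l _ => by ring
      _ = ∑ k, ∑ l, x k * x l * (a9 g * g) (rv k) l := by
          rw [Finset.sum_comm]
          refine Finset.sum_congr rfl fun k _ => ?_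
          rw [Finset.sum_comm]
          refine Finset.sum_congr rfl fun l _ => ?_
          rw [Matrix.mul_apply, Finset.mul_sum]
          exact Fintype.sum_equiv rvE _ _ fun p => by simp [rvE, rv, a9]
      _ = ∑ p, x p * x (rv p) := by
          refine Finset.sum_congr rfl fun k _ => ?_
          simp [h, Matrix.one_apply]
  simp only [Q9, e]

theorem iso_of_preserves (h2 : (2 : F) ≠ 0) {g : M9} (hg : ∀ x, Q9 (g *ᵥ x) = Q9 x) : Iso9 g := by
  ext i j
  rw [← polar_map h2]
  have e : QuadraticMap.polar Q9 (g *ᵥ Pi.single (rv i) 1) (g *ᵥ Pi.single j 1) =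
      QuadraticMap.polar Q9 (Pi.single (rv i) 1) (Pi.single j 1) := by
    simp only [QuadraticMap.polar, ← mulVec_add, hg]
  rw [e, polar_single h2, rv_rv, Pi.single_apply, Matrix.one_apply]

/-- An isometry as a unit. -/
def toGL (g : M9) (hg : Iso9 g) : GL (Fin 3 × Fin 3) F := ⟨g, a9 g, hg.right, hg⟩

theorem coe_toGL (g : M9) (hg : Iso9 g) : ((toGL g hg : GL (Fin 3 × Fin 3) F) : M9) = g := rfl

end Cfsg.Agent.Lib.OrthSquareNine.Form
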