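import Cfsg.Agent.Lib.OrthSquareNine.Fusion

/-!
A root element of one factor carried into the stabiliser by an outside element becomes mixed, in characteristic three.
Owner: helper96.
-/

set_option autoImplicit false
set_option linter.unusedSectionVars false

namespace Cfsg.Agent.Lib.OrthSquareNine.Fused

open Matrix Kronecker Cfsg.Agent.Lib.OrthSquareNine.O3 Cfsg.Agent.Lib.OrthSquareNine.Kron
  Cfsg.Agent.Lib.OrthSquareNine.Fusion

variable {F : Type*} [Field F] [Finite F]

local notation "M3" => Matrix (Fin 3) (Fin 3) F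
local notation "M9" => Matrix (Fin 3 × Fin 3) (Fin 3 × Fin 3) F

theorem U_pow (h2 : (2 : F) ≠ 0) (a : F) (n : ℕ) : U a ^ n = U ((n : F) * a) := by
  induction n with
  | zero => rw [pow_zero, Nat.cast_zero, zero_mul, U_zero]
  | succ n ih => rw [pow_succ, ih, U_mul h2]; push_cast; ring_nf

theorem kron_pow (A B : M3) (n : ℕ) : (A ⊗ₖ B) ^ n = (A ^ n) ⊗ₖ (B ^ n) := by
  induction n with
  | zero => rw [pow_zero, pow_zero, pow_zero, one_kronecker_one]
  | succ n ih => rw [pow_succ, pow_succ, pow_succ, ih, ← mul_kronecker_mul]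

theorem cj_pow {g : M9} (hg : Iso9 g) (v : M9) (n : ℕ) : cj g (v ^ n) = cj g v ^ n := by
  induction n with
  | zero => rw [pow_zero, pow_zero, cj_unit hg]
  | succ n ih => rw [pow_succ, pow_succ, cj_prod hg, ih]

/-- A mixed root element is not conjugate to a one-factor one, outside characteristic three. -/
theorem mixed_three (h2 : (2 : F) ≠ 0) {h : M9} (hh : Iso9 h) {a b c : F} (hb : b ≠ 0) (hc : c ≠ 0)
    (he : cj h (U b ⊗ₖ U c) = U a ⊗ₖ (1 : M3)) : (3 : F) = 0 := by
  set v := U b ⊗ₖ U c with hv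
  have hcube : (v - 1) * (v - 1) * (v - 1) = 0 := by
    have hu : (U a ⊗ₖ (1 : M3) - 1) * (U a ⊗ₖ (1 : M3) - 1) * (U a ⊗ₖ (1 : M3) - 1) = 0 := by
      have e : U a ⊗ₖ (1 : M3) - 1 = (U a - 1) ⊗ₖ (1 : M3) := by
        rw [eq_comm, eq_sub_iff_add_eq, show (1 : M9) = (1 : M3) ⊗ₖ (1 : M3) from one_kronecker_one.symm,
          ← add_kronecker, sub_add_cancel]
      rw [e, ← mul_kronecker_mul, ← mul_kronecker_mul]
      have : (U a - 1) * (U a - 1) * (U a - 1) = 0 := by
        ext i j; fin_cases i <;> fin_cases j <;> simp [U, Matrix.mul_apply, Fin.sum_univ_three]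
      rw [this, zero_kronecker]
    have e : cj (a9 h) ((U a ⊗ₖ (1 : M3) - 1) * (U a ⊗ₖ (1 : M3) - 1) * (U a ⊗ₖ (1 : M3) - 1)) =
        (v - 1) * (v - 1) * (v - 1) := by
      rw [cj_prod hh.ad', cj_prod hh.ad', map_sub, ← he, cj_inv hh, cj_unit hh.ad']
    rw [← e, hu, map_zero]
  have hexp : (v - 1) * (v - 1) * (v - 1) = v ^ 3 - (3 : F) • v ^ 2 + (3 : F) • v - 1 := by
    simp only [pow_succ, pow_zero, one_mul, sub_mul, mul_sub, mul_one]
    module
  have hent := congrFun (congrFun (hexp.symm.trans hcube) (0, 1)) (2, 2)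
  rw [hv, kron_pow, kron_pow, U_pow h2, U_pow h2, U_pow h2, U_pow h2] at hent
  simp [U, Matrix.one_apply] at hent
  have h0 : (3 : F) * (b ^ 2 * c) = 0 := by
    field_simp at hent
    refine (mul_eq_zero.1 (show (2 : F) * ((3 : F) * (b ^ 2 * c)) = 0 by
      first | linear_combination hent | linear_combination -hent)).resolve_left h2
  exact (mul_eq_zero.1 h0).resolve_right (mul_ne_zero (pow_ne_zero 2 hb) hc)

variable {H : Submonoid (Matrix (Fin 3 × Fin 3) (Fin 3 × Fin 3) F)}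

/-- An element of order `p` of the overgroup in the stabiliser is conjugate to an upper one. -/
theorem exists_upper (D : Cfsg.Agent.Lib.OrthSquareNine.Kron.Data H) {v : M9} (hi : Iso9 v) (hs : Str v)
    (hv : v ^ ringChar F = 1) :
    ∃ x ∈ (X : Submonoid M3), ∃ y ∈ (X : Submonoid M3), ∃ b c : F, v = cj (x ⊗ₖ y) (U b ⊗ₖ U c) := by
  have h2 := D.two
  have : Fact (ringChar F).Prime := ⟨CharP.char_is_prime F _⟩
  have hp : Odd (ringChar F) := by
    refine (Fact.out : (ringChar F).Prime).odd_of_ne_two fun e => h2 ?_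
    have : ((2 : ℕ) : F) = 0 := by rw [← e]; exact CharP.cast_eq_zero F _
    simpa using this
  obtain ⟨A, B, hA, hB, hA3, hB3, rfl⟩ := unipotent_factors hp hi hs hv
  obtain ⟨x, hx, b, hb⟩ := exists_conj_U h2 hA hA3
  obtain ⟨y, hy, c, hc⟩ := exists_conj_U h2 hB hB3
  refine ⟨x, hx, y, hy, b, c, ?_⟩
  rw [cj_kron, ← hb, ← hc]
  have ex := (iso_of_mem h2 hx).right
  have ey := (iso_of_mem h2 hy).right
  congr 1
  · simp only [← mul_assoc, ex, one_mul]; rw [mul_assoc, ex, mul_one]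
  · simp only [← mul_assoc, ey, one_mul]; rw [mul_assoc, ey, mul_one]

/-- An element outside the stabiliser carrying a root element into it gives a mixed image. -/
theorem mixed_of_fused (D : Cfsg.Agent.Lib.OrthSquareNine.Kron.Data H) (hR : NoRad H) {g : M9} (hg : g ∈ H)
    (hns : ¬ Str g) {a : F} (ha : a ≠ 0) (hs : Str (cj (a9 g) (U a ⊗ₖ (1 : M3)))) :
    (3 : F) = 0 ∧ ∃ x ∈ (X : Submonoid M3), ∃ y ∈ (X : Submonoid M3), ∃ b c : F, b ≠ 0 ∧ c ≠ 0 ∧
      cj (g * (x ⊗ₖ y)) (U b ⊗ₖ U c) = U a ⊗ₖ (1 : M3) := by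
  have h2 := D.two
  have hgi := D.iso g hg
  have : Fact (ringChar F).Prime := ⟨CharP.char_is_prime F _⟩
  set v := cj (a9 g) (U a ⊗ₖ (1 : M3)) with hv
  have hvi : Iso9 v := (hgi.ad'.mul (iso9_kron (iso_U h2 a) iso_one)).mul hgi.ad'.ad'
  have hvp : v ^ ringChar F = 1 := by
    rw [hv, ← cj_pow hgi.ad', kron_pow, U_pow h2, CharP.cast_eq_zero, zero_mul, U_zero, one_pow, one_kronecker_one,
      cj_unit hgi.ad']
  obtain ⟨x, hx, y, hy, b, c, hbc⟩ := exists_upper D hvi hs hvp
  set h := g * (x ⊗ₖ y) with hh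
  have hhH : h ∈ H := mul_mem hg (D.both_mem hx hy)
  have hhi := D.iso h hhH
  have he : cj h (U b ⊗ₖ U c) = U a ⊗ₖ (1 : M3) := by rw [hh, cj_mul, ← hbc, hv, cj_inv' hgi]
  have hhns : ¬ Str h := fun hh' => hns (by
    have := hh'.mul (str_kron (ad x) (ad y))
    rwa [hh, mul_assoc, ← mul_kronecker_mul, (iso_of_mem h2 hx).right, (iso_of_mem h2 hy).right, one_kronecker_one,
      mul_one] at this)
  have hmul : h * (U b ⊗ₖ U c) = (U a ⊗ₖ (1 : M3)) * h := by
    rw [← he, cj_apply, mul_assoc (h * (U b ⊗ₖ U c)), hhi, mul_one]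
  have hb0 : b ≠ 0 := by
    intro e
    rw [e, U_zero] at hmul
    rcases eq_or_ne c 0 with hc | hc
    · rw [hc, U_zero, one_kronecker_one, mul_one] at hmul
      have h1 := congrArg (fun Y => Y * a9 h) hmul
      simp only [mul_assoc, hhi.right, mul_one] at h1
      have := congrFun (congrFun h1 (1, 0)) (2, 0)
      simp [U, Matrix.one_apply] at this
      exact ha (by first | exact this.symm | exact this)
    · exact hhns (str_of_map_swap D hR hhH hc hmul)
  have hc0 : c ≠ 0 := fun e => hhns (str_of_map D hR hhH hb0 (by rw [e, U_zero] at hmul; exact hmul))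
  exact ⟨mixed_three h2 hhi hb0 hc0 he, x, hx, y, hy, b, c, hb0, hc0, he⟩

end Cfsg.Agent.Lib.OrthSquareNine.Fused
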