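import Cfsg.Agent.Lib.OrthSquareNine.Kron

/-!
Blocks of operators for the first factor; elements normalising a root group of one factor lie in the stabiliser
unless the overgroup has a new radical element; fusion of root elements into the stabiliser.
Owner: helper96.
-/

set_option autoImplicit false
set_option linter.unusedSectionVars false

namespace Cfsg.Agent.Lib.OrthSquareNine.Fusion

open Matrix Kronecker Cfsg.Agent.Lib.OrthSquareNine.O3 Cfsg.Agent.Lib.OrthSquareNine.Kron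

variable {F : Type*} [Field F]

local notation "M3" => Matrix (Fin 3) (Fin 3) F
local notation "M9" => Matrix (Fin 3 × Fin 3) (Fin 3 × Fin 3) F

/-- A block of an operator with respect to the first factor. -/
def blk (Y : M9) (i k : Fin 3) : M3 := Matrix.of fun l m => Y (i, l) (k, m)

theorem blk_ext {Y Z : M9} (h : ∀ i k, blk Y i k = blk Z i k) : Y = Z := by
  ext ⟨i, l⟩ ⟨k, m⟩
  exact congrFun (congrFun (h i k) l) m

theorem blk_mul (Y Z : M9) (i k : Fin 3) :
    blk (Y * Z) i k = blk Y i 0 * blk Z 0 k + blk Y i 1 * blk Z 1 k + blk Y i 2 * blk Z 2 k := by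
  ext l m
  simp [blk, Matrix.mul_apply, Fintype.sum_prod_type, Fin.sum_univ_three]

theorem blk_add (Y Z : M9) (i k : Fin 3) : blk (Y + Z) i k = blk Y i k + blk Z i k := rfl

theorem blk_smul (c : F) (Y : M9) (i k : Fin 3) : blk (c • Y) i k = c • blk Y i k := rfl

theorem blk_kron (A B : M3) (i k : Fin 3) : blk (A ⊗ₖ B) i k = A i k • B := rfl

theorem blk_a9 (Y : M9) (i k : Fin 3) : blk (a9 Y) i k = ad (blk Y k.rev i.rev) := rfl

theorem blk_one (i k : Fin 3) : blk (1 : M9) i k = if i = k then 1 else 0 := by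
  rw [show (1 : M9) = (1 : M3) ⊗ₖ (1 : M3) from one_kronecker_one.symm, blk_kron, Matrix.one_apply]
  split_ifs <;> simp

/-- Unitriangular for the first factor. -/
structure Rad (r : M9) : Prop where
  d0 : blk r 0 0 = 1
  d1 : blk r 1 1 = 1
  d2 : blk r 2 2 = 1
  l10 : blk r 1 0 = 0
  l20 : blk r 2 0 = 0
  l21 : blk r 2 1 = 0

theorem rad_U (c : F) : Rad (U c ⊗ₖ (1 : M3)) := by
  constructor <;> rw [blk_kron] <;> simp [U]

theorem Rad.mul {r s : M9} (hr : Rad r) (hs : Rad s) : Rad (r * s) := by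
  constructor <;> rw [blk_mul] <;>
    simp [hr.d0, hr.d1, hr.d2, hr.l10, hr.l20, hr.l21, hs.d0, hs.d1, hs.d2, hs.l10, hs.l20, hs.l21]

theorem Rad.a9' {r : M9} (hr : Rad r) : Rad (a9 r) := by
  constructor <;> rw [blk_a9] <;>
    simp [Fin.rev, hr.d0, hr.d1, hr.d2, hr.l10, hr.l20, hr.l21, ad_one, show ad (0 : M3) = 0 by ext; simp [ad_apply]]

theorem Rad.mul_blk {r s : M9} (hr : Rad r) (hs : Rad s) :
    blk (r * s) 0 1 = blk s 0 1 + blk r 0 1 ∧ blk (r * s) 1 2 = blk s 1 2 + blk r 1 2 ∧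
      blk (r * s) 0 2 = blk s 0 2 + blk r 0 1 * blk s 1 2 + blk r 0 2 := by
  refine ⟨?_, ?_, ?_⟩ <;> rw [blk_mul] <;>
    simp [hr.d0, hr.d1, hr.d2, hr.l10, hr.l20, hr.l21, hs.d0, hs.d1, hs.d2, hs.l10, hs.l20, hs.l21]

theorem Rad.iso_blk {r : M9} (hr : Rad r) (hi : Iso9 r) :
    blk r 1 2 = -ad (blk r 0 1) ∧ ad (blk r 0 2) + blk r 0 2 = blk r 0 1 * blk r 1 2 ∧
      blk r 0 1 = -ad (blk r 1 2) := by
  obtain ⟨h1, h2, h3⟩ := Rad.mul_blk hr hr.a9'
  rw [hi.right, blk_one] at h1 h2 h3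
  simp [blk_a9, Fin.rev] at h1 h2 h3
  have e12 : blk r 1 2 = -ad (blk r 0 1) := eq_neg_of_add_eq_zero_right h2.symm
  refine ⟨e12, ?_, eq_neg_of_add_eq_zero_right h1.symm⟩
  have e : ad (blk r 0 1) = -blk r 1 2 := by rw [e12, neg_neg]
  rw [e, mul_neg] at h3
  linear_combination (norm := abel) -h3

theorem Rad.eq_U {r : M9} (hr : Rad r) {c : F} (h01 : blk r 0 1 = -c • 1) (h12 : blk r 1 2 = c • 1)
    (h02 : blk r 0 2 = -(c ^ 2 / 2) • 1) : r = U c ⊗ₖ (1 : M3) := by
  refine blk_ext fun i k => ?_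
  fin_cases i <;> fin_cases k <;>
    simp [blk_kron, U, hr.d0, hr.d1, hr.d2, hr.l10, hr.l20, hr.l21, h01, h12, h02]

/-- Commutation with a root element passes to its logarithm. -/
theorem scale_nU {g : M9} (h2 : (2 : F) ≠ 0) {a b : F} (ha : a ≠ 0)
    (h : g * (U a ⊗ₖ (1 : M3)) = (U b ⊗ₖ (1 : M3)) * g) :
    a • (g * (nU ⊗ₖ (1 : M3))) = b • ((nU ⊗ₖ (1 : M3)) * g) := by
  set N : M9 := nU ⊗ₖ (1 : M3) with hN
  have h3 : N * N * N = 0 := by
    rw [hN, ← mul_kronecker_mul, ← mul_kronecker_mul, nU_cube, zero_kronecker]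
  have hU : ∀ c : F, U c ⊗ₖ (1 : M3) = 1 + (c • N + (c ^ 2 / 2) • (N * N)) := by
    intro c
    rw [hN, ← mul_kronecker_mul, mul_one, U_eq, add_kronecker, add_kronecker, smul_kronecker, smul_kronecker,
      one_kronecker_one, add_assoc]
  have h4 : N * N * (N * N) = 0 := by rw [← mul_assoc, h3, zero_mul]
  have h3' : N * (N * N) = 0 := by rw [← mul_assoc, h3]
  have hV : ∀ c : F, (c • N + (c ^ 2 / 2) • (N * N)) * (c • N + (c ^ 2 / 2) • (N * N)) = c ^ 2 • (N * N) := by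
    intro c
    simp only [add_mul, mul_add, smul_mul_assoc, mul_smul_comm, h3, h3', h4, smul_zero, add_zero, smul_smul]
    rw [sq]
  rw [hU, hU, mul_add, add_mul, mul_one, one_mul, add_right_inj] at h
  have hsq : a ^ 2 • (g * (N * N)) = b ^ 2 • (N * N * g) := by
    rw [← mul_smul_comm, ← hV a, ← mul_assoc, h, mul_assoc, h, ← mul_assoc, hV, smul_mul_assoc]
  rw [mul_add, add_mul, mul_smul_comm, mul_smul_comm, smul_mul_assoc, smul_mul_assoc] at h
  have hh : (a ^ 2 / 2) • (g * (N * N)) = (b ^ 2 / 2) • (N * N * g) := by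
    rw [div_eq_inv_mul, div_eq_inv_mul, mul_smul, mul_smul, hsq]
  rw [hh] at h
  exact add_right_cancel h

/-- The overgroup has no new radical element. -/
def NoRad (H : Submonoid M9) : Prop := ∀ r ∈ H, Rad r → ∃ c, r = U c ⊗ₖ (1 : M3)

variable {H : Submonoid (Matrix (Fin 3 × Fin 3) (Fin 3 × Fin 3) F)}

/-- An isometry normalising a root group of the first factor, with enough conjugates in the overgroup. -/
theorem str_of_normal [Finite F] (D : Cfsg.Agent.Lib.OrthSquareNine.Kron.Data H) (hR : NoRad H) {g : M9} (hg : Iso9 g) {κ : F} (hκ : κ ≠ 0)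
    (hN : g * (nU ⊗ₖ (1 : M3)) = κ • ((nU ⊗ₖ (1 : M3)) * g))
    (hX : ∀ x ∈ (X : Submonoid M3), cj g ((1 : M3) ⊗ₖ x) ∈ H)
    (ht : ∀ c, c ≠ 0 → cj g (tor (c ^ 2) ⊗ₖ (1 : M3)) ∈ H) : Str g := by
  have h2 := D.two
  have e : ∀ i k, blk (g * (nU ⊗ₖ (1 : M3))) i k = blk (κ • ((nU ⊗ₖ (1 : M3)) * g)) i k := fun i k => by rw [hN]
  have e00 := e 0 0
  have e10 := e 1 0
  have e11 := e 1 1
  have e01 := e 0 1
  have e12 := e 1 2
  simp [blk_smul, blk_mul, blk_kron, nU] at e00 e10 e11 e01 e12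
  have x10 : blk g 1 0 = 0 := e00.resolve_left hκ
  have x20 : blk g 2 0 = 0 := (smul_eq_zero_iff_right hκ).1 e10.symm
  have x21 : blk g 2 1 = 0 := by
    rw [x10, neg_zero] at e11; exact (smul_eq_zero_iff_right hκ).1 e11.symm
  have x00 : blk g 0 0 = κ • blk g 1 1 := e01
  have x22 : blk g 2 2 = κ⁻¹ • blk g 1 1 := by rw [e12, smul_smul, inv_mul_cancel₀ hκ, one_smul]
  set B := blk g 1 1 with hBdef
  have hB : Iso B := by
    have h := congrArg (fun Y : M9 => blk Y 1 1) hg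
    simp only [blk_mul, blk_a9, blk_one, Fin.rev, if_true] at h
    simp [x21, show ad (0 : M3) = 0 by ext; simp [ad_apply]] at h
    exact h
  set r := g * (tor κ⁻¹ ⊗ₖ ad B) with hr
  have hm : Iso9 (tor κ ⊗ₖ B) := iso9_kron (iso_tor hκ) hB
  have hgr : g = r * (tor κ ⊗ₖ B) := by
    rw [hr, mul_assoc, ← mul_kronecker_mul, tor_mul, inv_mul_cancel₀ hκ, tor_one, hB, one_kronecker_one, mul_one]
  have hri : Iso9 r := hg.mul (by rw [← ad_tor, ← a9_kron]; exact hm.ad')
  have hrad : Rad r := by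
    constructor <;> rw [hr, blk_mul] <;> simp [blk_kron, tor, x10, x20, x21, x00, x22, hκ, hB.right, ← hBdef]
  -- conjugates of the torus
  obtain ⟨c, hc, hc1⟩ : ∃ c : F, c ≠ 0 ∧ c ^ 2 ≠ 1 := by
    by_contra h
    push Not at h
    have := coeff_zero D.five 0 (-1) 0 1 0 fun s => by
      rcases eq_or_ne s 0 with rfl | hs
      · ring
      · linear_combination s * h s hs
    exact one_ne_zero this.2.2.2.1
  obtain ⟨h01, h12, h02⟩ := Rad.mul_blk hrad hrad.a9'
  have hzero : ad (0 : M3) = 0 := by ext; simp [ad_apply]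
  set ρ := r * cj (tor (c ^ 2) ⊗ₖ (1 : M3)) (a9 r) with hρ
  have hc2 : c ^ 2 ≠ 0 := pow_ne_zero 2 hc
  have htm : tor (c ^ 2) ⊗ₖ (1 : M3) = cj (tor κ ⊗ₖ B) (tor (c ^ 2) ⊗ₖ (1 : M3)) := by
    rw [cj_kron, mul_one, hB.right, ad_tor, tor_mul, tor_mul, mul_comm κ, mul_assoc, mul_inv_cancel₀ hκ, mul_one]
  have hρH : ρ ∈ H := by
    have e1 : cj r (tor (c ^ 2) ⊗ₖ (1 : M3)) ∈ H := by
      rw [htm, ← cj_mul, ← hgr]; exact ht c hc
    have := mul_mem e1 (D.inv _ (D.torA c hc))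
    rwa [cj_apply, mul_assoc, mul_assoc, ← mul_assoc (tor (c ^ 2) ⊗ₖ (1 : M3)), ← cj_apply] at this
  have hcjr : Rad (cj (tor (c ^ 2) ⊗ₖ (1 : M3)) (a9 r)) := by
    have := hrad.a9'
    constructor <;> rw [cj_apply, a9_kron, ad_one, ad_tor, blk_mul, blk_mul, blk_mul, blk_mul] <;>
      simp [blk_kron, tor, this.d0, this.d1, this.d2, this.l10, this.l20, this.l21, hc]
  obtain ⟨k01, -, -⟩ := Rad.mul_blk hrad hcjr
  have q01 : blk (cj (tor (c ^ 2) ⊗ₖ (1 : M3)) (a9 r)) 0 1 = c ^ 2 • ad (blk r 1 2) := by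
    rw [cj_apply, a9_kron, ad_one, ad_tor, blk_mul, blk_mul, blk_mul, blk_mul]
    simp [blk_kron, tor, blk_a9, Fin.rev]
  obtain ⟨s, hs⟩ := hR ρ hρH (hrad.mul hcjr)
  obtain ⟨-, -, i3⟩ := hrad.iso_blk hri
  have hφ : ∃ d : F, blk r 0 1 = -d • 1 := by
    have h := congrArg (fun Y : M9 => blk Y 0 1) hs
    simp only [hρ, k01, q01, blk_kron] at h
    rw [show ad (blk r 1 2) = -blk r 0 1 by rw [i3, neg_neg]] at h
    have hne : (1 : F) - c ^ 2 ≠ 0 := sub_ne_zero.2 (Ne.symm hc1)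
    refine ⟨(1 - c ^ 2)⁻¹ * s, ?_⟩
    have h' : (1 - c ^ 2) • blk r 0 1 = -s • (1 : M3) := by
      simp [U] at h
      rw [neg_smul s, ← h]
      module
    have := congrArg (fun Y : M3 => (1 - c ^ 2)⁻¹ • Y) h'
    simp only [smul_smul, inv_mul_cancel₀ hne, one_smul] at this
    rw [this, mul_neg]
  obtain ⟨d, hd⟩ := hφ
  -- remove the scalar part
  set r' := (U (-d) ⊗ₖ (1 : M3)) * r with hr'
  have hri' : Iso9 r' := (iso9_kron (iso_U h2 _) iso_one).mul hri
  have hrad' : Rad r' := (rad_U _).mul hrad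
  have z01 : blk r' 0 1 = 0 := by
    rw [hr', (Rad.mul_blk (rad_U _) hrad).1, hd, blk_kron]; simp [U]
  obtain ⟨j1, j2, -⟩ := hrad'.iso_blk hri'
  have z12 : blk r' 1 2 = 0 := by rw [j1, z01, hzero, neg_zero]
  have za : ad (blk r' 0 2) = -blk r' 0 2 := by
    rw [z01, zero_mul] at j2; exact eq_neg_of_add_eq_zero_left j2
  have hcomm : ∀ x ∈ (X : Submonoid M3), x * blk r' 0 2 * ad x = blk r' 0 2 := by
    intro x hx
    have hxi := iso_of_mem h2 hx
    have e1 : cj r' ((1 : M3) ⊗ₖ x) ∈ H := by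
      rw [hr', cj_mul]
      refine D.cj_mem (D.genA _).1 ?_
      have hx' : ad B * x * B ∈ (X : Submonoid M3) := by
        have := conj_mem h2 hB.ad' hx; rwa [ad_ad] at this
      have e2 : (1 : M3) ⊗ₖ x = cj (tor κ ⊗ₖ B) ((1 : M3) ⊗ₖ (ad B * x * B)) := by
        rw [cj_kron, mul_one, ad_tor, tor_mul, mul_inv_cancel₀ hκ, tor_one]
        congr 1
        rw [← mul_assoc B, ← mul_assoc B, hB.right, one_mul, mul_assoc, hB.right, mul_one]
      rw [e2, ← cj_mul, ← hgr]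
      exact hX _ hx'
    have e3 : cj r' ((1 : M3) ⊗ₖ x) * a9 ((1 : M3) ⊗ₖ x) = r' * cj ((1 : M3) ⊗ₖ x) (a9 r') := by
      simp only [cj_apply, mul_assoc]
    have hmem := mul_mem e1 (D.inv _ (D.right_mem hx))
    rw [e3] at hmem
    have hcj : Rad (cj ((1 : M3) ⊗ₖ x) (a9 r')) := by
      have := hrad'.a9'
      constructor <;> rw [cj_apply, a9_kron, ad_one, blk_mul, blk_mul, blk_mul, blk_mul] <;>
        simp [blk_kron, this.d0, this.d1, this.d2, this.l10, this.l20, this.l21, hxi.right]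
    obtain ⟨s, hs⟩ := hR _ hmem (hrad'.mul hcj)
    obtain ⟨m01, -, m02⟩ := Rad.mul_blk hrad' hcj
    have c01 : blk (cj ((1 : M3) ⊗ₖ x) (a9 r')) 0 1 = 0 := by
      rw [cj_apply, a9_kron, ad_one, blk_mul, blk_mul, blk_mul, blk_mul]
      simp [blk_kron, blk_a9, Fin.rev, z12, hzero]
    have c02 : blk (cj ((1 : M3) ⊗ₖ x) (a9 r')) 0 2 = -(x * blk r' 0 2 * ad x) := by
      rw [cj_apply, a9_kron, ad_one, blk_mul, blk_mul, blk_mul, blk_mul]
      simp [blk_kron, blk_a9, Fin.rev, za]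
    rw [hs, c01, z01, add_zero, blk_kron] at m01
    have hs0 : s = 0 := by
      have := congrFun (congrFun m01 0) 0; simpa [U] using this
    rw [hs, c02, z01, zero_mul, add_zero, blk_kron, hs0] at m02
    simp [U] at m02
    exact neg_add_eq_zero.1 m02.symm
  set A := blk r' 0 2 with hA
  have hAU : A * nU = nU * A := by
    refine comm_nU h2 (one_ne_zero) ?_
    have := hcomm _ (U_mem (1 : F))
    conv_lhs => rw [← this]
    rw [mul_assoc _ (ad (U (1 : F))), iso_U h2 (1 : F), mul_one]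
  have hA0 : A = 0 := by
    have hc := skew_comm h2 za hAU
    have := hcomm _ (L_mem (1 : F))
    rw [hc, mul_smul_comm, smul_mul_assoc, ad_L] at this
    have h22 := congrFun (congrFun this 2) 2
    simp [L, nU, Matrix.mul_apply, Fin.sum_univ_three] at h22
    rw [hc, show A 1 2 = 0 by linear_combination h22, zero_smul]
  have hr1 : r' = 1 := by
    refine blk_ext fun i k => ?_
    fin_cases i <;> fin_cases k <;>
      simp [blk_one, hrad'.d0, hrad'.d1, hrad'.d2, hrad'.l10, hrad'.l20, hrad'.l21, z01, z12, ← hA, hA0]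
  have hrU : r = U d ⊗ₖ (1 : M3) := by
    have := congrArg (fun Y => (U d ⊗ₖ (1 : M3)) * Y) (hr'.symm.trans hr1)
    rwa [← mul_assoc, ← mul_kronecker_mul, U_mul h2, add_neg_cancel, U_zero, mul_one, one_kronecker_one, one_mul,
      mul_one] at this
  rw [hgr, hrU]
  exact (str_kron _ _).mul (str_kron _ _)

/-- A member of the overgroup mapping a root element of the first factor to another lies in the stabiliser. -/
theorem str_of_map [Finite F] (D : Cfsg.Agent.Lib.OrthSquareNine.Kron.Data H) (hR : NoRad H) {g : M9} (hg : g ∈ H) {a b : F} (ha : a ≠ 0)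
    (h : g * (U a ⊗ₖ (1 : M3)) = (U b ⊗ₖ (1 : M3)) * g) : Str g := by
  have h' := scale_nU D.two ha h
  have hg' := D.iso g hg
  have hb : b ≠ 0 := by
    intro e
    rw [e, zero_smul, smul_eq_zero_iff_right ha] at h'
    have := congrArg (fun Y => a9 g * Y) h'
    rw [← mul_assoc, hg', one_mul, mul_zero] at this
    have := congrFun (congrFun this (1, 0)) (2, 0)
    simp [nU] at this
  refine str_of_normal D hR hg' (mul_ne_zero (inv_ne_zero ha) hb) ?_ (fun x hx => D.cj_mem hg (D.right_mem hx))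
    fun c hc => D.cj_mem hg (D.torA c hc)
  rw [mul_smul, ← h', smul_smul, inv_mul_cancel₀ ha, one_smul]

/-- The same, from the second factor to the first. -/
theorem str_of_map_swap [Finite F] (D : Cfsg.Agent.Lib.OrthSquareNine.Kron.Data H) (hR : NoRad H) {g : M9} (hg : g ∈ H) {a b : F} (ha : a ≠ 0)
    (h : g * ((1 : M3) ⊗ₖ U a) = (U b ⊗ₖ (1 : M3)) * g) : Str g := by
  have h1 : (g * sw) * (U a ⊗ₖ (1 : M3)) = (U b ⊗ₖ (1 : M3)) * (g * sw) := by
    rw [mul_assoc, sw_kron, ← mul_assoc, h, mul_assoc]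
  have h' := scale_nU D.two ha h1
  have hgi : Iso9 (g * sw) := (D.iso g hg).mul iso9_sw
  have hb : b ≠ 0 := by
    intro e
    rw [e, zero_smul, smul_eq_zero_iff_right ha] at h'
    have := congrArg (fun Y => a9 (g * sw) * Y) h'
    rw [← mul_assoc, hgi, one_mul, mul_zero] at this
    have := congrFun (congrFun this (1, 0)) (2, 0)
    simp [nU] at this
  have := str_of_normal D hR hgi (mul_ne_zero (inv_ne_zero ha) hb) (by
      rw [mul_smul, ← h', smul_smul, inv_mul_cancel₀ ha, one_smul])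
    (fun x hx => by rw [cj_mul, cj_sw]; exact D.cj_mem hg (D.left_mem hx))
    fun c hc => by rw [cj_mul, cj_sw]; exact D.cj_mem hg (D.torB c hc)
  have := this.mul str_sw
  rwa [sw_cancel] at this

end Cfsg.Agent.Lib.OrthSquareNine.Fusion
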