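import Cfsg.Agent.Lib.OrthSquareNine.O3
import Mathlib.LinearAlgebra.Matrix.Kronecker
import Mathlib.LinearAlgebra.Matrix.Charpoly.Coeff
import Mathlib.Data.Matrix.Basis
import Mathlib.LinearAlgebra.Matrix.CharP

/-!
Operators on the tensor square of the three-dimensional space: the adjoint, the exchange, partial traces, the
equivariant map onto the sum of the two factor algebras, and the data of an overgroup of the stabiliser.
Owner: helper96.
-/

set_option autoImplicit false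
set_option linter.unusedSectionVars false

namespace Cfsg.Agent.Lib.OrthSquareNine.Kron

open Matrix Kronecker Cfsg.Agent.Lib.OrthSquareNine.O3

variable {F : Type*} [Field F]

local notation "M3" => Matrix (Fin 3) (Fin 3) F
local notation "M9" => Matrix (Fin 3 × Fin 3) (Fin 3 × Fin 3) F

/-- The adjoint for the tensor square of the anti-diagonal form. -/
def a9 (Y : M9) : M9 := Matrix.of fun i j => Y (j.1.rev, j.2.rev) (i.1.rev, i.2.rev)

theorem a9_kron (A B : M3) : a9 (A ⊗ₖ B) = ad A ⊗ₖ ad B := rfl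

theorem a9_a9 (Y : M9) : a9 (a9 Y) = Y := by ext i j; simp [a9]

theorem a9_add (Y Z : M9) : a9 (Y + Z) = a9 Y + a9 Z := rfl

theorem a9_sub (Y Z : M9) : a9 (Y - Z) = a9 Y - a9 Z := rfl

theorem a9_smul (c : F) (Y : M9) : a9 (c • Y) = c • a9 Y := rfl

theorem a9_one : a9 (1 : M9) = 1 := by
  rw [← one_kronecker_one (α := F) (m := Fin 3) (n := Fin 3), a9_kron, ad_one]

theorem a9_mul (Y Z : M9) : a9 (Y * Z) = a9 Z * a9 Y := by
  ext i j
  simp only [a9, Matrix.of_apply, Matrix.mul_apply]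
  exact Fintype.sum_equiv (Fin.revPerm.prodCongr Fin.revPerm) _ _ fun k => by simp [mul_comm]

/-- An isometry of the big form. -/
def Iso9 (g : M9) : Prop := a9 g * g = 1

theorem Iso9.right {g : M9} (h : Iso9 g) : g * a9 g = 1 := mul_eq_one_comm.1 h

theorem Iso9.mul {g k : M9} (hg : Iso9 g) (hk : Iso9 k) : Iso9 (g * k) := by
  rw [Iso9, a9_mul, mul_assoc, ← mul_assoc (a9 g), hg, one_mul, hk]

theorem Iso9.ad' {g : M9} (hg : Iso9 g) : Iso9 (a9 g) := by rw [Iso9, a9_a9]; exact hg.right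

theorem iso9_kron {A B : M3} (hA : Iso A) (hB : Iso B) : Iso9 (A ⊗ₖ B) := by
  rw [Iso9, a9_kron, ← mul_kronecker_mul, hA, hB, one_kronecker_one]

/-- The exchange of the factors. -/
def sw : M9 := Matrix.of fun i j => if j = (i.2, i.1) then 1 else 0

theorem sw_mul (Y : M9) : sw * Y = Matrix.of fun i j => Y (i.2, i.1) j := by
  ext i j
  simp [sw, Matrix.mul_apply]

theorem mul_sw (Y : M9) : Y * sw = Matrix.of fun i j => Y i (j.2, j.1) := by
  ext i j
  simp only [sw, Matrix.mul_apply, Matrix.of_apply, mul_ite, mul_one, mul_zero]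
  rw [Finset.sum_eq_single (j.2, j.1) (fun b _ hb => if_neg fun h => hb (by rw [h])) (by simp)]
  simp

theorem sw_sw : sw * (sw : M9) = 1 := by
  rw [sw_mul]; ext i j; simp [sw, Matrix.one_apply, eq_comm]

theorem sw_kron (A B : M3) : sw * (A ⊗ₖ B) = (B ⊗ₖ A) * sw := by
  rw [sw_mul, mul_sw]; ext i j; simp [mul_comm]

theorem sw_kron_sw (A B : M3) : sw * (A ⊗ₖ B) * sw = B ⊗ₖ A := by rw [sw_kron, mul_assoc, sw_sw, mul_one]

theorem a9_sw : a9 (sw : M9) = sw := by
  ext i j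
  simp [a9, sw, Prod.ext_iff, eq_comm, and_comm]

theorem iso9_sw : Iso9 (sw : M9) := by rw [Iso9, a9_sw, sw_sw]

theorem sw_cancel (g : M9) : g * sw * sw = g := by rw [mul_assoc, sw_sw, mul_one]

/-- In the stabiliser of the decomposition. -/
def Str (g : M9) : Prop := ∃ A B : M3, g = A ⊗ₖ B ∨ g = A ⊗ₖ B * sw

theorem str_one : Str (1 : M9) := ⟨1, 1, Or.inl one_kronecker_one.symm⟩

theorem str_kron (A B : M3) : Str (A ⊗ₖ B) := ⟨A, B, Or.inl rfl⟩

theorem Str.mul {g k : M9} (hg : Str g) (hk : Str k) : Str (g * k) := by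
  obtain ⟨A, B, rfl | rfl⟩ := hg <;> obtain ⟨C, D, rfl | rfl⟩ := hk
  · exact ⟨A * C, B * D, Or.inl (mul_kronecker_mul ..).symm⟩
  · exact ⟨A * C, B * D, Or.inr (by rw [← mul_assoc, ← mul_kronecker_mul])⟩
  · refine ⟨A * D, B * C, Or.inr ?_⟩
    rw [mul_assoc, sw_kron, ← mul_assoc, ← mul_kronecker_mul]
  · refine ⟨A * D, B * C, Or.inl ?_⟩
    rw [mul_assoc, ← mul_assoc sw, sw_kron, mul_assoc (D ⊗ₖ C), sw_sw, mul_one, ← mul_kronecker_mul]

theorem Str.a9' {g : M9} (hg : Str g) : Str (a9 g) := by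
  obtain ⟨A, B, rfl | rfl⟩ := hg
  · exact ⟨ad A, ad B, Or.inl (a9_kron A B)⟩
  · exact ⟨ad B, ad A, Or.inr (by rw [a9_mul, a9_sw, a9_kron, sw_kron])⟩

theorem str_sw : Str (sw : M9) := ⟨1, 1, Or.inr (by rw [one_kronecker_one, one_mul])⟩

theorem sw_not_kron (A B : M3) : (sw : M9) ≠ A ⊗ₖ B := by
  intro h
  have e := fun i j => congrFun (congrFun h i) j
  have h1 := e (0, 0) (0, 0)
  have h2 := e (0, 1) (0, 1)
  have h3 := e (1, 1) (1, 1)
  simp [sw] at h1 h2 h3
  have hA : A 0 0 ≠ 0 := fun z => by rw [z, zero_mul] at h1; exact one_ne_zero h1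
  have hB : B 1 1 ≠ 0 := fun z => by rw [z, mul_zero] at h3; exact one_ne_zero h3
  exact (h2.elim hA hB)

/-- Partial trace over the second factor. -/
def ptB (Y : M9) : M3 := Matrix.of fun i k => ∑ l, Y (i, l) (k, l)

/-- Partial trace over the first factor. -/
def ptA (Y : M9) : M3 := Matrix.of fun j l => ∑ i, Y (i, j) (i, l)

theorem ptB_kron (A B : M3) : ptB (A ⊗ₖ B) = B.trace • A := by
  ext i k
  simp [ptB, Matrix.trace, Finset.mul_sum, Finset.sum_mul, mul_comm]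

theorem ptA_kron (A B : M3) : ptA (A ⊗ₖ B) = A.trace • B := by
  ext j l
  simp [ptA, Matrix.trace, Finset.sum_mul]

theorem ptB_add (Y Z : M9) : ptB (Y + Z) = ptB Y + ptB Z := by
  ext i k; simp [ptB, Finset.sum_add_distrib]

theorem ptA_add (Y Z : M9) : ptA (Y + Z) = ptA Y + ptA Z := by
  ext i k; simp [ptA, Finset.sum_add_distrib]

theorem ptB_smul (c : F) (Y : M9) : ptB (c • Y) = c • ptB Y := by
  ext i k; simp [ptB, Finset.mul_sum]

theorem ptA_smul (c : F) (Y : M9) : ptA (c • Y) = c • ptA Y := by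
  ext i k; simp [ptA, Finset.mul_sum]

theorem ptB_a9 (Y : M9) : ptB (a9 Y) = ad (ptB Y) := by
  ext i k
  simp only [ptB, a9, Matrix.of_apply, ad_apply]
  exact Fintype.sum_equiv Fin.revPerm _ _ fun _ => rfl

theorem ptA_a9 (Y : M9) : ptA (a9 Y) = ad (ptA Y) := by
  ext i k
  simp only [ptA, a9, Matrix.of_apply, ad_apply]
  exact Fintype.sum_equiv Fin.revPerm _ _ fun _ => rfl

/-- The map onto the sum of the factor algebras. -/
def pr : M9 →ₗ[F] M9 where
  toFun Y := ptB Y ⊗ₖ (1 : M3) + (1 : M3) ⊗ₖ ptA Y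
  map_add' Y Z := by
    simp only [ptB_add, ptA_add, add_kronecker, kronecker_add]; abel
  map_smul' c Y := by
    simp only [ptB_smul, ptA_smul, smul_kronecker, kronecker_smul, RingHom.id_apply, smul_add]

theorem pr_apply (Y : M9) : pr Y = ptB Y ⊗ₖ (1 : M3) + (1 : M3) ⊗ₖ ptA Y := rfl

theorem pr_kron (A B : M3) : pr (A ⊗ₖ B) = B.trace • (A ⊗ₖ (1 : M3)) + A.trace • ((1 : M3) ⊗ₖ B) := by
  rw [pr_apply, ptB_kron, ptA_kron, smul_kronecker, kronecker_smul]

/-- Linear maps agreeing on tensor products agree. -/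
theorem ext_kron {W : Type*} [AddCommMonoid W] [Module F W] {f g : M9 →ₗ[F] W}
    (h : ∀ A B : M3, f (A ⊗ₖ B) = g (A ⊗ₖ B)) (Y : M9) : f Y = g Y := by
  induction Y using Matrix.induction_on' with
  | h_zero => rw [map_zero, map_zero]
  | h_add p q hp hq => rw [map_add, map_add, hp, hq]
  | h_std_basis i j x =>
    have e : Matrix.single i j x = Matrix.single i.1 j.1 x ⊗ₖ Matrix.single i.2 j.2 (1 : F) := by
      rw [single_kronecker_single, mul_one]
    rw [e]; exact h _ _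

/-- Conjugation by an isometry. -/
def cj (g : M9) : M9 →ₗ[F] M9 where
  toFun Y := g * Y * a9 g
  map_add' Y Z := by rw [mul_add, add_mul]
  map_smul' c Y := by simp

theorem cj_apply (g Y : M9) : cj g Y = g * Y * a9 g := rfl

theorem cj_mul (g k Y : M9) : cj (g * k) Y = cj g (cj k Y) := by
  simp [cj_apply, a9_mul, mul_assoc]

theorem cj_one (Y : M9) : cj (1 : M9) Y = Y := by simp [cj_apply, a9_one]

theorem cj_inv {g : M9} (hg : Iso9 g) (Y : M9) : cj (a9 g) (cj g Y) = Y := by rw [← cj_mul, hg, cj_one]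

theorem cj_inv' {g : M9} (hg : Iso9 g) (Y : M9) : cj g (cj (a9 g) Y) = Y := by rw [← cj_mul, hg.right, cj_one]

theorem a9_cj (g Y : M9) : a9 (cj g Y) = cj g (a9 Y) := by simp [cj_apply, a9_mul, a9_a9, mul_assoc]

theorem cj_prod {g : M9} (hg : Iso9 g) (Y Z : M9) : cj g (Y * Z) = cj g Y * cj g Z := by
  simp only [cj_apply, mul_assoc]
  rw [← mul_assoc (a9 g) g, hg, one_mul]

theorem cj_unit {g : M9} (hg : Iso9 g) : cj g 1 = 1 := by rw [cj_apply, mul_one, hg.right]

theorem cj_kron (A B C D : M3) : cj (A ⊗ₖ B) (C ⊗ₖ D) = (A * C * ad A) ⊗ₖ (B * D * ad B) := by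
  rw [cj_apply, a9_kron, ← mul_kronecker_mul, ← mul_kronecker_mul]

theorem cj_sw (C D : M3) : cj sw (C ⊗ₖ D) = D ⊗ₖ C := by rw [cj_apply, a9_sw, sw_kron_sw]

theorem cj_eq_self_iff {g : M9} (hg : Iso9 g) (Y : M9) : cj g Y = Y ↔ g * Y = Y * g := by
  constructor
  · intro h
    conv_rhs => rw [← h, cj_apply, mul_assoc, hg, mul_one]
  · intro h
    rw [cj_apply, h, mul_assoc, hg.right, mul_one]

/-- A tensor product of the identity is a product of scalars. -/
theorem kron_eq_one {P Q : M3} (h : P ⊗ₖ Q = (1 : M9)) :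
    ∃ c : F, c ≠ 0 ∧ P = c • 1 ∧ Q = c⁻¹ • 1 := by
  have e : ∀ i k j l, P i k * Q j l = (1 : M9) (i, j) (k, l) := fun i k j l => congrFun (congrFun h (i, j)) (k, l)
  have h00 := e 0 0 0 0
  rw [Matrix.one_apply_eq] at h00
  have hP : P 0 0 ≠ 0 := fun z => by rw [z, zero_mul] at h00; exact zero_ne_one h00
  have hQ : Q 0 0 = (P 0 0)⁻¹ := eq_inv_of_mul_eq_one_right h00
  refine ⟨P 0 0, hP, ?_, ?_⟩
  · ext i k
    have h1 := e i k 0 0
    rw [hQ] at h1
    simp only [Matrix.one_apply, Prod.mk.injEq, and_true] at h1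
    rw [Matrix.smul_apply, Matrix.one_apply, smul_eq_mul]
    field_simp at h1
    rw [h1]
  · ext j l
    have h1 := e 0 0 j l
    simp only [Matrix.one_apply, Prod.mk.injEq, true_and] at h1
    rw [Matrix.smul_apply, Matrix.one_apply, smul_eq_mul, ← h1, ← mul_assoc, inv_mul_cancel₀ hP, one_mul]

theorem similitude {A B : M3} (hg : Iso9 (A ⊗ₖ B)) :
    ∃ c : F, c ≠ 0 ∧ ad A * A = c • 1 ∧ ad B * B = c⁻¹ • 1 := by
  rw [Iso9, a9_kron, ← mul_kronecker_mul] at hg
  exact kron_eq_one hg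

/-- An isometry of the form `A ⊗ B` has isometries as factors. -/
theorem exists_iso_factors {A B : M3} (hg : Iso9 (A ⊗ₖ B)) :
    ∃ A' B' : M3, Iso A' ∧ Iso B' ∧ A ⊗ₖ B = A' ⊗ₖ B' := by
  obtain ⟨c, hc, hA, hB⟩ := similitude hg
  have hd : (ad A).det = A.det := by
    have e : ad A = (A.submatrix Fin.revPerm Fin.revPerm)ᵀ := rfl
    rw [e, det_transpose, det_submatrix_equiv_self]
  have h3 : A.det * A.det = c ^ 3 := by
    have := congrArg Matrix.det hA
    rw [det_mul, hd, det_smul, det_one, mul_one, Fintype.card_fin] at this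
    exact this
  set s := A.det / c with hs
  have hs2 : s * s = c := by rw [hs, div_mul_div_comm, h3]; field_simp
  have hs0 : s ≠ 0 := fun z => hc (by rw [← hs2, z, zero_mul])
  refine ⟨s⁻¹ • A, s • B, ?_, ?_, ?_⟩
  · rw [Iso, ad_smul, smul_mul_assoc, mul_smul_comm, smul_smul, hA, smul_smul, ← mul_inv, hs2, inv_mul_cancel₀ hc,
      one_smul]
  · rw [Iso, ad_smul, smul_mul_assoc, mul_smul_comm, smul_smul, hB, smul_smul, hs2, mul_inv_cancel₀ hc, one_smul]
  · rw [smul_kronecker, kronecker_smul, smul_smul, inv_mul_cancel₀ hs0, one_smul]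

/-- The map onto the factor algebras commutes with the stabiliser. -/
theorem pr_cj {g : M9} (hg : Iso9 g) (hs : Str g) (Y : M9) : pr (cj g Y) = cj g (pr Y) := by
  have key : ∀ A B : M3, Iso A → Iso B → ∀ Y, pr (cj (A ⊗ₖ B) Y) = cj (A ⊗ₖ B) (pr Y) := by
    intro A B hA hB Y
    refine ext_kron (f := pr.comp (cj (A ⊗ₖ B))) (g := (cj (A ⊗ₖ B)).comp pr) (fun C D => ?_) Y
    simp only [LinearMap.comp_apply, cj_kron, pr_kron, map_add, map_smul, mul_one, hA.right, hB.right]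
    rw [trace_mul_cycle B D (ad B), hB, one_mul, trace_mul_cycle A C (ad A), hA, one_mul]
  have ksw : ∀ Y : M9, pr (cj (sw : M9) Y) = cj (sw : M9) (pr Y) := fun Y =>
    ext_kron (f := pr.comp (cj (sw : M9))) (g := (cj (sw : M9)).comp pr) (fun C D => by
      simp only [LinearMap.comp_apply, cj_sw, pr_kron, map_add, map_smul]
      exact add_comm _ _) Y
  obtain ⟨A, B, rfl | rfl⟩ := hs
  · obtain ⟨A', B', hA, hB, e⟩ := exists_iso_factors hg
    rw [e]; exact key _ _ hA hB Y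
  · have hg' : Iso9 (A ⊗ₖ B) := by
      have := hg.mul iso9_sw; rwa [sw_cancel] at this
    obtain ⟨A', B', hA, hB, e⟩ := exists_iso_factors hg'
    rw [e, cj_mul, key _ _ hA hB, ksw, ← cj_mul]

/-- The data of an overgroup of the stabiliser. -/
structure Data (H : Submonoid M9) : Prop where
  two : (2 : F) ≠ 0
  five : 5 ≤ Nat.card F
  iso : ∀ g ∈ H, Iso9 g
  inv : ∀ g ∈ H, a9 g ∈ H
  genA : ∀ a, (U a ⊗ₖ (1 : M3)) ∈ H ∧ (L a ⊗ₖ (1 : M3)) ∈ H
  genB : ∀ a, ((1 : M3) ⊗ₖ U a) ∈ H ∧ ((1 : M3) ⊗ₖ L a) ∈ H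
  torA : ∀ c, c ≠ 0 → (tor (c ^ 2) ⊗ₖ (1 : M3)) ∈ H
  torB : ∀ c, c ≠ 0 → ((1 : M3) ⊗ₖ tor (c ^ 2)) ∈ H
  torAB : ∀ c, c ≠ 0 → (tor c ⊗ₖ tor c) ∈ H

namespace Data

theorem left_mem {H : Submonoid M9} (D : Cfsg.Agent.Lib.OrthSquareNine.Kron.Data H) {x : M3} (hx : x ∈ (X : Submonoid M3)) : (x ⊗ₖ (1 : M3)) ∈ H := by
  let f : M3 →* M9 :=
    { toFun := fun A => A ⊗ₖ (1 : M3)
      map_one' := one_kronecker_one
      map_mul' := fun A B => by rw [← mul_kronecker_mul, mul_one] }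
  have hle : (X : Submonoid M3) ≤ H.comap f := by
    refine Submonoid.closure_le.2 ?_
    rintro y (⟨a, rfl⟩ | ⟨a, rfl⟩)
    · exact (D.genA a).1
    · exact (D.genA a).2
  exact hle hx

theorem right_mem {H : Submonoid M9} (D : Cfsg.Agent.Lib.OrthSquareNine.Kron.Data H) {x : M3} (hx : x ∈ (X : Submonoid M3)) : ((1 : M3) ⊗ₖ x) ∈ H := by
  let f : M3 →* M9 :=
    { toFun := fun A => (1 : M3) ⊗ₖ A
      map_one' := one_kronecker_one
      map_mul' := fun A B => by rw [← mul_kronecker_mul, mul_one] }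
  have hle : (X : Submonoid M3) ≤ H.comap f := by
    refine Submonoid.closure_le.2 ?_
    rintro y (⟨a, rfl⟩ | ⟨a, rfl⟩)
    · exact (D.genB a).1
    · exact (D.genB a).2
  exact hle hx

theorem both_mem {H : Submonoid M9} (D : Cfsg.Agent.Lib.OrthSquareNine.Kron.Data H) {x y : M3} (hx : x ∈ (X : Submonoid M3)) (hy : y ∈ (X : Submonoid M3)) :
    (x ⊗ₖ y) ∈ H := by
  rw [show x ⊗ₖ y = (x ⊗ₖ (1 : M3)) * ((1 : M3) ⊗ₖ y) by rw [← mul_kronecker_mul, mul_one, one_mul]]
  exact mul_mem (D.left_mem hx) (D.right_mem hy)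

theorem cj_mem {H : Submonoid M9} (D : Cfsg.Agent.Lib.OrthSquareNine.Kron.Data H) {g y : M9} (hg : g ∈ H) (hy : y ∈ H) : cj g y ∈ H :=
  mul_mem (mul_mem hg hy) (D.inv g hg)

end Data

/-- The conjugate of a submonoid by the exchange. -/
def swH (H : Submonoid M9) : Submonoid M9 where
  carrier := {g | (sw : M9) * g * sw ∈ H}
  mul_mem' {a b} ha hb := by
    show (sw : M9) * (a * b) * sw ∈ H
    have := mul_mem (show (sw : M9) * a * sw ∈ H from ha) (show (sw : M9) * b * sw ∈ H from hb)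
    rwa [show (sw : M9) * a * sw * (sw * b * sw) = sw * (a * (sw * sw) * b) * sw by noncomm_ring, sw_sw,
      mul_one] at this
  one_mem' := by show (sw : M9) * 1 * sw ∈ H; rw [mul_one, sw_sw]; exact one_mem _

theorem mem_swH {H : Submonoid M9} {g : M9} : g ∈ swH H ↔ (sw : M9) * g * sw ∈ H := Iff.rfl

theorem swH_swH {H : Submonoid M9} {g : M9} : g ∈ swH (swH H) ↔ g ∈ H := by
  rw [mem_swH, mem_swH, show (sw : M9) * (sw * g * sw) * sw = (sw * sw) * g * (sw * sw) by noncomm_ring, sw_sw,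
    one_mul, mul_one]

/-- The overgroup seen from the other factor. -/
theorem swapped {H : Submonoid M9} (D : Data (F := F) H) : Data (F := F) (swH H) where
  two := D.two
  five := D.five
  iso := fun g hg => by
    have h := (iso9_sw.mul (D.iso _ hg)).mul iso9_sw
    rwa [show (sw : M9) * (sw * g * sw) * sw = (sw * sw) * g * (sw * sw) by noncomm_ring, sw_sw, one_mul, mul_one] at h
  inv := fun g hg => by
    show (sw : M9) * a9 g * sw ∈ H
    have := D.inv _ hg
    rwa [a9_mul, a9_mul, a9_sw, ← mul_assoc] at this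
  genA := fun a => ⟨by show (sw : M9) * _ * sw ∈ H; rw [sw_kron_sw]; exact (D.genB a).1,
    by show (sw : M9) * _ * sw ∈ H; rw [sw_kron_sw]; exact (D.genB a).2⟩
  genB := fun a => ⟨by show (sw : M9) * _ * sw ∈ H; rw [sw_kron_sw]; exact (D.genA a).1,
    by show (sw : M9) * _ * sw ∈ H; rw [sw_kron_sw]; exact (D.genA a).2⟩
  torA := fun c hc => by show (sw : M9) * _ * sw ∈ H; rw [sw_kron_sw]; exact D.torB c hc
  torB := fun c hc => by show (sw : M9) * _ * sw ∈ H; rw [sw_kron_sw]; exact D.torA c hc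
  torAB := fun c hc => by show (sw : M9) * _ * sw ∈ H; rw [sw_kron_sw]; exact D.torAB c hc

theorem cube_of_pow {p : ℕ} [Fact p.Prime] [CharP F p] {A : M3} (h : A ^ p = 1) : (A - 1) ^ 3 = 0 := by
  have hn : IsNilpotent (A - 1) := ⟨p, by rw [sub_pow_char_of_commute p (Commute.one_right A), h, one_pow, sub_self]⟩
  have h1 := isNilpotent_charpoly_sub_pow_of_isNilpotent hn
  rw [isNilpotent_iff_eq_zero, sub_eq_zero, Fintype.card_fin] at h1
  have h2 := Matrix.aeval_self_charpoly (A - 1)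
  rwa [h1, map_pow, Polynomial.aeval_X] at h2

/-- An element of order `p` of the stabiliser. -/
theorem unipotent_factors {p : ℕ} [Fact p.Prime] [CharP F p] (hp : Odd p) {v : M9} (hi : Iso9 v) (hs : Str v)
    (hv : v ^ p = 1) :
    ∃ A B : M3, Iso A ∧ Iso B ∧ (A - 1) ^ 3 = 0 ∧ (B - 1) ^ 3 = 0 ∧ v = A ⊗ₖ B := by
  have kpow : ∀ (A B : M3) (n : ℕ), (A ⊗ₖ B) ^ n = (A ^ n) ⊗ₖ (B ^ n) := by
    intro A B n
    induction n with
    | zero => rw [pow_zero, pow_zero, pow_zero, one_kronecker_one]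
    | succ n ih => rw [pow_succ, pow_succ, pow_succ, ih, ← mul_kronecker_mul]
  obtain ⟨A, B, rfl | rfl⟩ := hs
  · obtain ⟨A', B', hA, hB, e⟩ := exists_iso_factors hi
    rw [e, kpow] at hv
    obtain ⟨c, hc, hAp, hBp⟩ := kron_eq_one hv
    have hcc : c * c = 1 := by
      have hAi : ∀ n : ℕ, Iso (A' ^ n) := fun n => by
        induction n with
        | zero => rw [pow_zero]; exact iso_one
        | succ n ih => rw [pow_succ]; exact ih.mul hA
      have h := hAi p
      rw [hAp, Iso, ad_smul, ad_one, smul_mul_assoc, one_mul, smul_smul] at h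
      have := congrFun (congrFun h 0) 0
      simpa using this
    have hci : c⁻¹ = c := inv_eq_of_mul_eq_one_left hcc
    have hcp : c ^ p = c := by
      obtain ⟨k, rfl⟩ := hp
      rw [pow_succ, pow_mul, sq, hcc, one_pow, one_mul]
    refine ⟨c • A', c • B', ?_, ?_, ?_, ?_, ?_⟩
    · rw [Iso, ad_smul, smul_mul_assoc, mul_smul_comm, smul_smul, hcc, one_smul, hA]
    · rw [Iso, ad_smul, smul_mul_assoc, mul_smul_comm, smul_smul, hcc, one_smul, hB]
    · exact cube_of_pow (p := p) (by rw [smul_pow, hAp, smul_smul, hcp, hcc, one_smul])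
    · exact cube_of_pow (p := p) (by rw [smul_pow, hBp, smul_smul, hcp, hci, hcc, one_smul])
    · rw [e, smul_kronecker, kronecker_smul, smul_smul, hcc, one_smul]
  · exfalso
    have h2 : (A ⊗ₖ B * sw) * (A ⊗ₖ B * sw) = (A * B) ⊗ₖ (B * A) := by
      rw [mul_assoc, ← mul_assoc sw, sw_kron, mul_assoc (B ⊗ₖ A), sw_sw, mul_one, ← mul_kronecker_mul]
    obtain ⟨k, rfl⟩ := hp
    rw [pow_succ, pow_mul, sq, h2, kpow, ← mul_assoc, ← mul_kronecker_mul] at hv
    refine sw_not_kron (ad ((A * B) ^ k * A)) (ad ((B * A) ^ k * B)) ?_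
    rw [← a9_kron]
    have hiso : Iso9 (((A * B) ^ k * A) ⊗ₖ ((B * A) ^ k * B)) := by
      have := (show Iso9 (1 : M9) by rw [Iso9, a9_one, one_mul]).mul iso9_sw
      rw [← hv, sw_cancel] at this
      exact this
    have := congrArg (fun z => a9 (((A * B) ^ k * A) ⊗ₖ ((B * A) ^ k * B)) * z) hv
    rwa [← mul_assoc, hiso, one_mul, mul_one] at this

end Cfsg.Agent.Lib.OrthSquareNine.Kron
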