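import Cfsg.Agent.Lib.OrthSquareNine.Average
import Cfsg.Agent.Lib.TensorOrthMax.Main
import Cfsg.Agent.Lib.TensorPowerMax.Basic
import Cfsg.Agent.Lib.AschbacherEvenDim.OddTensor
import Cfsg.Agent.Lib.Subspaces.OmegaGL

/-!
The stabiliser of a tensor square of a three-dimensional symmetric form is maximal in the nine-dimensional
orthogonal group, odd characteristic, at least five field elements.
Owner: helper96.
-/

set_option autoImplicit false
set_option linter.unusedSectionVars false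

namespace Cfsg.Agent.Lib.OrthSquareNine.Main

open Matrix Kronecker Cfsg.Agent.Lib.OrthSquareNine.O3 Cfsg.Agent.Lib.OrthSquareNine.Kron
  Cfsg.Agent.Lib.OrthSquareNine.Fusion Cfsg.Agent.Lib.OrthSquareNine.Form Cfsg.Agent.Lib.OrthSquareNine.Radical
  Cfsg.Agent.Lib.Subspaces.OrthForm Cfsg.Agent.Lib.Subspaces.OrthLines Cfsg.Agent.Lib.Subspaces.Transvection
  Cfsg.Agent.Lib.Subspaces.FormVec

variable {F : Type*} [Field F]

local notation "M3" => Matrix (Fin 3) (Fin 3) F
local notation "M9" => Matrix (Fin 3 × Fin 3) (Fin 3 × Fin 3) F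
local notation "V9" => (Fin 3 × Fin 3 → F)
local notation "G9" => GL (Fin 3 × Fin 3) F

/-- The Gram matrix of the anti-diagonal form. -/
def J : M3 := Matrix.of fun i j => if j = i.rev then 1 else 0

/-- A symmetric form in three dimensions is similar to the anti-diagonal one. -/
theorem exists_std [Finite F] (h2 : (2 : F) ≠ 0) {f : (Fin 3 → F) → (Fin 3 → F) → F} (hf : Cfsg.Geo.IsSymmetricForm f) :
    ∃ (S : GL (Fin 3) F) (μ : F), μ ≠ 0 ∧
      (S : M3)ᵀ * Cfsg.Geo.gramMatrix f * (S : M3) = μ • J := by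
  have := Fintype.ofFinite F
  obtain ⟨v, hv, hvv⟩ := Cfsg.Agent.Lib.AschbacherEvenDim.exists_isotropic_sym (le_refl 3) h2 hf
  obtain ⟨⟨y, hy⟩, -⟩ := hf.nondegenerate v hv
  have hb := hf.bilinear
  obtain ⟨y', hy'⟩ : ∃ y', f v y' = 1 := by
    rcases eq_or_ne (f v y) 0 with h | h
    · exact absurd (by first | exact h | (rw [hf.symm]; exact h)) hy
    · exact ⟨(f v y)⁻¹ • y, by rw [hb.smul_right, inv_mul_cancel₀ h]⟩
  set b := y' + (-(f y' y' / 2)) • v with hbdef
  have hvb : f v b = 1 := by rw [hbdef, hb.add_right, hb.smul_right, hy', hvv, mul_zero, add_zero]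
  have hbv : f b v = 1 := by rw [hf.symm]; exact hvb
  have hbb : f b b = 0 := by
    rw [hbdef, hb.add_left, hb.add_right, hb.add_right, hb.smul_left, hb.smul_left, hb.smul_right, hb.smul_right,
      hvv, hy', hf.symm y' v, hy']
    field_simp
    ring
  obtain ⟨z, hz⟩ : ∃ z, z ∉ Submodule.span F (Set.range ![v, b]) := by
    by_contra! hall
    have h1 : Submodule.span F (Set.range ![v, b]) = ⊤ := eq_top_iff.2 fun x _ => hall x
    have h3 := finrank_span_range_le (F := F) ![v, b]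
    rw [h1, finrank_top, Module.finrank_fin_fun] at h3
    omega
  set w := z + (-(f z b)) • v + (-(f z v)) • b with hwdef
  have hwv : f w v = 0 := by
    rw [hwdef, hb.add_left, hb.add_left, hb.smul_left, hb.smul_left, hvv, hbv]; ring
  have hwb : f w b = 0 := by
    rw [hwdef, hb.add_left, hb.add_left, hb.smul_left, hb.smul_left, hvb, hbb]; ring
  have hw0 : w ≠ 0 := fun e => hz (by
    have : z = f z b • v + f z v • b := by
      rw [hwdef] at e; linear_combination (norm := module) e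
    rw [this]
    exact add_mem (Submodule.smul_mem _ _ (Submodule.subset_span ⟨0, rfl⟩))
      (Submodule.smul_mem _ _ (Submodule.subset_span ⟨1, rfl⟩)))
  -- coordinates
  let L : (Fin 3 → F) →ₗ[F] (Fin 3 → F) :=
    { toFun := fun x => x 0 • v + x 1 • w + x 2 • b
      map_add' := fun x y => by simp only [Pi.add_apply, add_smul]; abel
      map_smul' := fun c x => by simp only [Pi.smul_apply, smul_eq_mul, RingHom.id_apply, smul_add, smul_smul] }
  have hLf : ∀ x y, f (L x) (L y) = x 0 * y 2 + f w w * (x 1 * y 1) + x 2 * y 0 := by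
    intro x y
    show f (x 0 • v + x 1 • w + x 2 • b) (y 0 • v + y 1 • w + y 2 • b) = _
    simp only [hb.add_left, hb.add_right, hb.smul_left, hb.smul_right, hvv, hvb, hbv, hbb, hwv, hwb, hf.symm v w,
      hf.symm b w]
    ring
  have hinj : Function.Injective L := by
    refine (injective_iff_map_eq_zero L).2 fun x hx => ?_
    have h0 : f (L x) (L (Pi.single 2 1)) = 0 := by rw [hx, form_zero_left (isLinearLeft_of_bilinear hb)]
    have h2' : f (L x) (L (Pi.single 0 1)) = 0 := by rw [hx, form_zero_left (isLinearLeft_of_bilinear hb)]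
    simp [hLf] at h0 h2'
    have e : L x = x 1 • w := by
      show x 0 • v + x 1 • w + x 2 • b = _
      rw [h0, h2', zero_smul, zero_smul, zero_add, add_zero]
    rw [e, smul_eq_zero_iff_left hw0] at hx
    funext i; fin_cases i <;> simp [h0, h2', hx]
  have hsurj := LinearMap.surjective_of_injective hinj
  set μ := f w w with hμdef
  have hμ : μ ≠ 0 := by
    intro h0
    obtain ⟨⟨u, hu⟩, -⟩ := hf.nondegenerate w hw0
    obtain ⟨x, rfl⟩ := hsurj u
    apply hu
    first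
      | (show f (x 0 • v + x 1 • w + x 2 • b) w = 0
         simp only [hb.add_left, hb.smul_left, ← hμdef, h0, hf.symm v w, hwv, hf.symm b w, hwb]; ring)
      | (show f w (x 0 • v + x 1 • w + x 2 • b) = 0
         simp only [hb.add_right, hb.smul_right, ← hμdef, h0, hwv, hwb]; ring)
  let S : M3 := Matrix.of fun i j => ![μ • v, w, b] j i
  have hS : ∀ x, S *ᵥ x = L ![μ * x 0, x 1, x 2] := by
    intro x; funext i
    show (S *ᵥ x) i = ((μ * x 0) • v + x 1 • w + x 2 • b) i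
    simp [S, mulVec, dotProduct, Fin.sum_univ_three]
    ring
  have hSinj : Function.Injective S.mulVec := fun x y h => by
    rw [hS, hS] at h
    have h' := hinj h
    funext i
    fin_cases i
    · exact mul_left_cancel₀ hμ (congrFun h' 0)
    · exact congrFun h' 1
    · exact congrFun h' 2
  have hdet : IsUnit S := Matrix.mulVec_injective_iff_isUnit.1 hSinj
  refine ⟨hdet.unit, μ, hμ, ?_⟩
  ext i j
  have e : ((hdet.unit : GL (Fin 3) F) : M3)ᵀ * Cfsg.Geo.gramMatrix f * ((hdet.unit : GL (Fin 3) F) : M3) =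
      Sᵀ * Cfsg.Geo.gramMatrix f * S := rfl
  rw [e]
  have key : (Sᵀ * Cfsg.Geo.gramMatrix f * S) i j = f (S *ᵥ Pi.single i 1) (S *ᵥ Pi.single j 1) := by
    rw [Cfsg.Agent.Lib.Forms.TensorFrame.eq_formOfGram (isLinearLeft_of_bilinear hb) hb.add_right hb.smul_right,
      mulVec_single_one, mulVec_single_one]
    simp only [Cfsg.Geo.formOfGram, Matrix.mul_apply, Matrix.transpose_apply, Matrix.col_apply, id_eq,
      RingHom.id_apply, Finset.sum_mul]
    rw [Finset.sum_comm]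
  rw [key, hS, hS, hLf]
  fin_cases i <;> fin_cases j <;> simp [J, Fin.rev]

theorem J_apply (p q : Fin 3 × Fin 3) : ((J : M3) ⊗ₖ (J : M3)) p q = if q = rv p then 1 else 0 := by
  obtain ⟨i, j⟩ := p
  obtain ⟨k, l⟩ := q
  simp only [kroneckerMap_apply, J, Matrix.of_apply, rv, Prod.mk.injEq]
  split_ifs <;> simp_all

/-- A central element is not in the stabiliser. -/
theorem cen_not_str : ¬ Str (cen (nU : M3)) := by
  have e : ∀ p q, cen (nU : M3) p q = (if p = q then 1 else 0) + (if p.1 = 0 ∧ q.1 = 2 then nU p.2 q.2 else 0) := by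
    intro p q
    obtain ⟨i, l⟩ := p
    obtain ⟨k, m⟩ := q
    simp only [cen, Matrix.add_apply, Matrix.one_apply, kroneckerMap_apply, Matrix.single_apply]
    congr 1
    by_cases h : i = 0 ∧ k = 2
    · rw [if_pos (by tauto), if_pos h, one_mul]
    · rw [if_neg (by tauto), if_neg h, zero_mul]
  rintro ⟨A, B, h | h⟩
  · have e0 := e (0, 0) (0, 0)
    have e1 := e (0, 0) (2, 1)
    have e2 := e (0, 0) (0, 1)
    rw [h] at e0 e1 e2
    simp [nU] at e0 e1 e2
    rcases e2 with h0 | h0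
    · rw [h0, zero_mul] at e0; exact zero_ne_one e0
    · rw [h0, mul_zero] at e1; exact one_ne_zero (neg_eq_zero.1 e1.symm)
  · have e0 := e (0, 0) (0, 0)
    have e1 := e (1, 0) (1, 0)
    have e2 := e (0, 0) (1, 0)
    rw [h, mul_sw] at e0 e1 e2
    simp at e0 e1 e2
    rcases e2 with h0 | h0
    · rw [h0, zero_mul] at e0; exact zero_ne_one e0
    · rw [h0, mul_zero] at e1; exact zero_ne_one e1

/-- The reindexed tensor matrices of two factors. -/
theorem pt_two (a : Fin 2 → M3) :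
    (Cfsg.Agent.Lib.TensorPowerMax.Basic.pt a).submatrix (finTwoArrowEquiv (Fin 3)).symm
      (finTwoArrowEquiv (Fin 3)).symm = a 0 ⊗ₖ a 1 := by
  ext ⟨i, j⟩ ⟨k, l⟩
  simp [Cfsg.Agent.Lib.TensorPowerMax.Basic.pt_apply, Fin.prod_univ_two]

theorem pm_swap :
    (Cfsg.Agent.Lib.TensorPowerMax.Basic.pm (F := F) (m := 3) (Equiv.swap (0 : Fin 2) 1)).submatrix
      (finTwoArrowEquiv (Fin 3)).symm (finTwoArrowEquiv (Fin 3)).symm = sw := by
  ext ⟨i, j⟩ ⟨k, l⟩
  simp [Cfsg.Agent.Lib.TensorPowerMax.Basic.pm_apply, sw, funext_iff, Fin.forall_fin_two, Prod.ext_iff]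

theorem perm_two (σ : Equiv.Perm (Fin 2)) : σ = 1 ∨ σ = Equiv.swap 0 1 := by revert σ; decide

/-- The stabiliser in product coordinates. -/
theorem mem_standard_iff (g : G9) :
    Cfsg.Geo.glReindex (finTwoArrowEquiv (Fin 3)).symm g ∈ Cfsg.Geo.tensorWreathStandard 3 2 F ↔ Str (g : M9) := by
  set E := finTwoArrowEquiv (Fin 3)
  have hval : ((Cfsg.Geo.glReindex E.symm g : GL (Fin 2 → Fin 3) F) : Matrix (Fin 2 → Fin 3) (Fin 2 → Fin 3) F) =
      (g : M9).submatrix E E := rfl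
  rw [Cfsg.Agent.Lib.TensorPowerMax.Basic.stab_eq]
  constructor
  · rintro ⟨a, σ, h⟩
    have h' := congrArg (fun z : GL (Fin 2 → Fin 3) F =>
      (z : Matrix (Fin 2 → Fin 3) (Fin 2 → Fin 3) F).submatrix E.symm E.symm) h
    simp only [hval, submatrix_submatrix, Equiv.self_comp_symm, submatrix_id_id, Units.val_mul,
      Cfsg.Agent.Lib.TensorPowerMax.Basic.coe_ptGL, Cfsg.Agent.Lib.TensorPowerMax.Basic.coe_pmGL] at h'
    rw [← submatrix_mul_equiv (e₂ := E.symm), pt_two] at h'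
    rcases perm_two σ with rfl | rfl
    · rw [Cfsg.Agent.Lib.TensorPowerMax.Basic.pm_one, submatrix_one_equiv, mul_one] at h'
      exact ⟨_, _, Or.inl h'⟩
    · rw [pm_swap] at h'
      exact ⟨_, _, Or.inr h'⟩
  · rintro ⟨A, B, h⟩
    have hd : IsUnit (A ⊗ₖ B : M9) := by
      rcases h with h | h
      · exact ⟨g, h⟩
      · have : IsUnit ((g : M9) * sw) := g.isUnit.mul ⟨⟨sw, sw, sw_sw, sw_sw⟩, rfl⟩
        rwa [h, sw_cancel] at this
    rw [Matrix.isUnit_iff_isUnit_det, det_kronecker, IsUnit.mul_iff, isUnit_pow_iff (by norm_num),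
      isUnit_pow_iff (by norm_num), ← Matrix.isUnit_iff_isUnit_det, ← Matrix.isUnit_iff_isUnit_det] at hd
    let a : Fin 2 → GL (Fin 3) F := ![hd.1.unit, hd.2.unit]
    have hpt : (Cfsg.Agent.Lib.TensorPowerMax.Basic.pt fun i => (a i : M3)).submatrix E.symm E.symm = A ⊗ₖ B := by
      rw [pt_two]; rfl
    have hback : ∀ Y : Matrix (Fin 2 → Fin 3) (Fin 2 → Fin 3) F, (Y.submatrix E.symm E.symm).submatrix E E = Y :=
      fun Y => by rw [submatrix_submatrix, Equiv.symm_comp_self, submatrix_id_id]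
    rcases h with h | h
    · refine ⟨a, 1, Units.ext ?_⟩
      rw [hval, h, ← hpt, hback, map_one, mul_one]
      rfl
    · refine ⟨a, Equiv.swap 0 1, Units.ext ?_⟩
      rw [hval, h, ← hpt, ← pm_swap (F := F), submatrix_mul_equiv, hback]
      rfl

variable [Fintype F] {ι : Type} [Fintype ι] [DecidableEq ι]

/-- The stabiliser of a tensor square is maximal. -/
theorem maximal {Q : (ι → F) → F} (hQ : Cfsg.Geo.IsNondegenerateQuadraticForm Q) (h2 : (2 : F) ≠ 0)
    (hq : 5 ≤ Fintype.card F) (e : ι ≃ (Fin 2 → Fin 3)) (P : GL ι F) (f₁ : (Fin 3 → F) → (Fin 3 → F) → F)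
    (hf₁ : Cfsg.Geo.IsSymmetricForm f₁)
    (hT : Cfsg.Geo.IsTensorPowerFormStructure id (QuadraticMap.polar Q) f₁ e P) :
    Cfsg.Geo.IsMaximalIn (Cfsg.Geo.omegaGL Q) (Cfsg.Geo.tensorWreathSubgroup 3 2 e P ⊓ Cfsg.Geo.omegaGL Q) := by
  classical
  obtain ⟨S, μ, hμ, hS⟩ := exists_std h2 hf₁
  obtain ⟨c, hc, hf⟩ := hT
  set E := finTwoArrowEquiv (Fin 3)
  set e' : ι ≃ Fin 3 × Fin 3 := e.trans E with he'
  set κ := c * μ ^ 2 with hκdef
  have hκ : κ ≠ 0 := mul_ne_zero hc (pow_ne_zero 2 hμ)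
  let R : G9 := ⟨(S : M3) ⊗ₖ (S : M3), ((S⁻¹ : GL (Fin 3) F) : M3) ⊗ₖ ((S⁻¹ : GL (Fin 3) F) : M3),
    by rw [← mul_kronecker_mul, ← Units.val_mul, mul_inv_cancel, Units.val_one, one_kronecker_one],
    by rw [← mul_kronecker_mul, ← Units.val_mul, inv_mul_cancel, Units.val_one, one_kronecker_one]⟩
  set ψ : G9 ≃* GL ι F := (Cfsg.Geo.glReindex (F := F) e'.symm).trans (MulAut.conj P) with hψ
  set φ : G9 ≃* GL ι F := (MulAut.conj R).trans ψ with hφ
  let T0 : V9 →ₗ[F] (ι → F) := (Matrix.mulVecLin (P : Matrix ι ι F)).comp (LinearMap.funLeft F F e')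
  let T : V9 →ₗ[F] (ι → F) := T0.comp (Matrix.mulVecLin (R : M9))
  have hT0surj : Function.Surjective T0 := fun x =>
    ⟨(((P⁻¹ : GL ι F) : Matrix ι ι F) *ᵥ x) ∘ e'.symm, by
      show (P : Matrix ι ι F) *ᵥ (((((P⁻¹ : GL ι F) : Matrix ι ι F) *ᵥ x) ∘ e'.symm) ∘ e') = x
      conv_rhs => rw [← gl_mulVec_inv P x]
      congr 1
      funext i; simp⟩
  have hTsurj : Function.Surjective T := fun x => by
    obtain ⟨z, rfl⟩ := hT0surj x
    exact ⟨((R⁻¹ : G9) : M9) *ᵥ z, by
      show T0 ((R : M9) *ᵥ (((R⁻¹ : G9) : M9) *ᵥ z)) = _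
      rw [gl_mulVec_inv]⟩
  have hψT : ∀ g z, (ψ g : Matrix ι ι F) *ᵥ T0 z = T0 ((g : M9) *ᵥ z) := by
    intro g z
    show ((P * Cfsg.Geo.glReindex e'.symm g * P⁻¹ : GL ι F) : Matrix ι ι F) *ᵥ ((P : Matrix ι ι F) *ᵥ (z ∘ e')) =
      (P : Matrix ι ι F) *ᵥ (((g : M9) *ᵥ z) ∘ e')
    rw [gl_mul_mulVec, gl_mul_mulVec, gl_inv_mulVec]
    congr 1
    show (Matrix.reindexAlgEquiv F F e'.symm) (g : M9) *ᵥ _ = _
    rw [Matrix.reindexAlgEquiv_apply, Matrix.reindex_apply, Equiv.symm_symm, Matrix.submatrix_mulVec_equiv]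
    congr 1
    congr 1
    funext p; simp
  have hφT : ∀ g z, (φ g : Matrix ι ι F) *ᵥ T z = T ((g : M9) *ᵥ z) := by
    intro g z
    show (ψ (R * g * R⁻¹) : Matrix ι ι F) *ᵥ T0 ((R : M9) *ᵥ z) = T0 ((R : M9) *ᵥ ((g : M9) *ᵥ z))
    rw [hψT, gl_mul_mulVec, gl_mul_mulVec, gl_inv_mulVec]
  have hpol : ∀ x y, QuadraticMap.polar Q (T x) (T y) = κ * QuadraticMap.polar Q9 x y := by
    intro x y
    set G := Cfsg.Geo.gramMatrix f₁
    have h := hf (((R : M9) *ᵥ x) ∘ E) (((R : M9) *ᵥ y) ∘ E)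
    have hsum : ∑ a, ∑ b, (((R : M9) *ᵥ x) ∘ E) a * (∏ i, G (a i) (b i)) * id ((((R : M9) *ᵥ y) ∘ E) b) =
        ((R : M9) *ᵥ x) ⬝ᵥ ((G ⊗ₖ G) *ᵥ ((R : M9) *ᵥ y)) := by
      generalize (R : M9) *ᵥ x = z, (R : M9) *ᵥ y = w
      simp only [dotProduct, mulVec, Finset.mul_sum]
      refine Fintype.sum_equiv E _ _ fun a => Fintype.sum_equiv E _ _ fun b => ?_
      simp [E, Fin.prod_univ_two, mul_assoc]
    rw [hsum] at h
    refine h.trans ?_
    rw [dotProduct_mulVec, vecMul_mulVec, ← dotProduct_mulVec, mulVec_mulVec, hκdef, mul_assoc c]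
    congr 1
    rw [show (R : M9) = (S : M3) ⊗ₖ (S : M3) from rfl, ← kroneckerMap_transpose, ← mul_kronecker_mul, ← mul_kronecker_mul,
      hS, smul_kronecker, kronecker_smul, smul_smul, Matrix.smul_mulVec, dotProduct_smul, smul_eq_mul, sq]
    congr 1
    rw [polar_Q9 h2]
    simp only [dotProduct, mulVec, J_apply]
    refine Finset.sum_congr rfl fun p _ => ?_
    simp
  have hQT : ∀ x, Q (T x) = κ * Q9 x := by
    intro x
    have h := hpol x x
    rw [B_self hQ, B_self (isNondeg h2)] at h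
    exact mul_left_cancel₀ h2 (h.trans (by ring))
  have hiso : ∀ g : G9, φ g ∈ Cfsg.isometryGroup F Q ↔ Iso9 (g : M9) := by
    intro g
    constructor
    · intro hg
      refine iso_of_preserves h2 fun x => mul_left_cancel₀ hκ ?_
      rw [← hQT, ← hQT, ← hφT]
      exact hg _ 0
    · intro hg v w
      obtain ⟨x, rfl⟩ := hTsurj v
      show Q ((φ g : Matrix ι ι F) *ᵥ T x) = Q (T x)
      rw [hφT, hQT, hQT, iso_preserves h2 hg]
  have hmem : ∀ g : G9, φ g ∈ Cfsg.Geo.tensorWreathSubgroup 3 2 e P ↔ Str (g : M9) := by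
    intro g
    have h1 : ∀ x : G9, ψ x = (MulAut.conj P) (Cfsg.Geo.glReindex e.symm (Cfsg.Geo.glReindex E.symm x)) := fun x => by
      rw [hψ]
      show MulAut.conj P (Cfsg.Geo.glReindex e'.symm x) = _
      congr 1
    have h3 : φ g ∈ Cfsg.Geo.tensorWreathSubgroup 3 2 e P ↔ Str ((R * g * R⁻¹ : G9) : M9) := by
      rw [← mem_standard_iff]
      show ψ (R * g * R⁻¹) ∈ _ ↔ _
      rw [h1]
      constructor
      · rintro ⟨y, ⟨z, hz, rfl⟩, hy⟩
        have := (Cfsg.Geo.glReindex e.symm).injective ((MulAut.conj P).injective hy)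
        rwa [← this]
      · exact fun hx => ⟨_, ⟨_, hx, rfl⟩, rfl⟩
    rw [h3]
    have hR : Str (R : M9) := str_kron _ _
    have hR' : Str ((R⁻¹ : G9) : M9) := str_kron _ _
    constructor
    · intro h
      have := (hR'.mul h).mul hR
      rwa [← Units.val_mul, ← Units.val_mul, show R⁻¹ * (R * g * R⁻¹) * R = g by group] at this
    · intro h
      rw [Units.val_mul, Units.val_mul]
      exact (hR.mul h).mul hR'
  have hcard : 5 ≤ Fintype.card ι := by
    rw [Fintype.card_congr e']; simp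
  -- Siegel elements in the coordinates
  have hroot : ∀ {u w : V9}, Q9 u = 0 → QuadraticMap.polar Q9 w u = 0 →
      φ (sieg Q9 u w) = sieg Q (T u) (κ⁻¹ • T w) := by
    intro u w hu hw
    have hu' : Q (T u) = 0 := by rw [hQT, hu, mul_zero]
    have hw' : QuadraticMap.polar Q (κ⁻¹ • T w) (T u) = 0 := by
      rw [hQ.polar_bilinear.smul_left, hpol, hw, mul_zero, mul_zero]
    refine gl_ext fun v => ?_
    obtain ⟨x, rfl⟩ := hTsurj v
    rw [hφT, sieg_mulVec (isNondeg h2) hu hw, sieg_mulVec hQ hu' hw', hQ.smul, hQT,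
      hQ.polar_bilinear.smul_right, hpol, hpol, map_add, map_add, map_smul, map_smul]
    match_scalars <;> field_simp
  have hdata : ∀ M : Subgroup (GL ι F), M ≤ Cfsg.Geo.omegaGL Q →
      Cfsg.Geo.tensorWreathSubgroup 3 2 e P ⊓ Cfsg.Geo.omegaGL Q ≤ M →
      ∃ H : Submonoid M9, Kron.Data H ∧ ∀ g : G9, (g : M9) ∈ H ↔ φ g ∈ M := by
    intro M hMle hM
    refine ⟨(M.comap φ.toMonoidHom).toSubmonoid.map (Units.coeHom M9), ?_, fun g => ?_⟩
    swap
    · constructor
      · rintro ⟨g', hg', he⟩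
        rw [← show g' = g from Units.ext he]
        exact hg'
      · exact fun h => ⟨g, h, rfl⟩
    have sq : ∀ g : M9, Iso9 g → Str g → g * g ∈ (M.comap φ.toMonoidHom).toSubmonoid.map (Units.coeHom M9) := by
      intro g hg hs
      refine ⟨toGL g hg * toGL g hg, ?_, rfl⟩
      show φ _ ∈ M
      rw [map_mul]
      refine hM ⟨?_, Cfsg.Agent.Lib.TensorOrthMax.Main.sq_mem_omega hQ h2 ((hiso _).2 hg)⟩
      exact mul_mem ((hmem _).2 hs) ((hmem _).2 hs)
    have hisoM : ∀ g : G9, φ g ∈ M → Iso9 (g : M9) := fun g hg => by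
      obtain ⟨y, -, hy⟩ := hMle hg
      exact (hiso g).1 (hy ▸ y.2)
    haveI : NeZero (2 : F) := ⟨h2⟩
    refine
      { two := h2, five := by rw [Nat.card_eq_fintype_card]; exact hq
        iso := ?_, inv := ?_, genA := fun a => ⟨?_, ?_⟩, genB := fun a => ⟨?_, ?_⟩
        torA := fun c hc => ?_, torB := fun c hc => ?_, torAB := fun c hc => ?_ }
    · rintro _ ⟨g, hg, rfl⟩
      exact hisoM g hg
    · rintro _ ⟨g, hg, rfl⟩
      refine ⟨g⁻¹, Subgroup.inv_mem (M.comap φ.toMonoidHom) hg, ?_⟩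
      show ((g⁻¹ : G9) : M9) = a9 (g : M9)
      have hgi : a9 (g : M9) * (g : M9) = 1 := hisoM g hg
      calc ((g⁻¹ : G9) : M9) = a9 (g : M9) * (g : M9) * ((g⁻¹ : G9) : M9) := by rw [hgi, one_mul]
        _ = a9 (g : M9) := by rw [mul_assoc, Units.mul_inv, mul_one]
    · convert sq _ (iso9_kron (iso_U h2 (a / 2)) iso_one) (str_kron _ _) using 1
      rw [← mul_kronecker_mul, U_mul h2, add_halves, mul_one]
    · convert sq _ (iso9_kron (iso_L h2 (a / 2)) iso_one) (str_kron _ _) using 1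
      rw [← mul_kronecker_mul, L_mul h2, add_halves, mul_one]
    · convert sq _ (iso9_kron iso_one (iso_U h2 (a / 2))) (str_kron _ _) using 1
      rw [← mul_kronecker_mul, U_mul h2, add_halves, mul_one]
    · convert sq _ (iso9_kron iso_one (iso_L h2 (a / 2))) (str_kron _ _) using 1
      rw [← mul_kronecker_mul, L_mul h2, add_halves, mul_one]
    · convert sq _ (iso9_kron (iso_tor hc) iso_one) (str_kron _ _) using 1
      rw [← mul_kronecker_mul, tor_mul, mul_one, pow_two]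
    · convert sq _ (iso9_kron iso_one (iso_tor hc)) (str_kron _ _) using 1
      rw [← mul_kronecker_mul, tor_mul, mul_one, pow_two]
    · convert sq _ ((iso9_kron (iso_tor hc) iso_one).mul iso9_sw) ((str_kron _ _).mul str_sw) using 1
      rw [mul_assoc, ← mul_assoc sw, sw_kron, mul_assoc ((1 : M3) ⊗ₖ tor c), sw_sw, mul_one, ← mul_kronecker_mul,
        mul_one, one_mul]
  refine ⟨lt_of_le_of_ne inf_le_right fun heq => ?_, fun M hM hMle => ?_⟩
  · have hu : Q9 (pt (ev 0) (ev 0) : V9) = 0 := by rw [Q9_pt h2, bil_ev]; simp [Fin.rev]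
    have hu1 : Q9 (pt (ev 0) (ev 1) : V9) = 0 := by rw [Q9_pt h2, bil_ev]; simp [Fin.rev]
    have hw : QuadraticMap.polar Q9 (pt (ev 0) (ev 1) : V9) (pt (ev 0) (ev 0)) = 0 := by
      rw [polar_pt h2, bil_ev]; simp [Fin.rev]
    have hΩ : φ (sieg Q9 (pt (ev 0) (ev 0)) (pt (ev 0) (ev 1))) ∈ Cfsg.Geo.omegaGL Q := by
      rw [hroot hu hw]
      refine Cfsg.Agent.Lib.Subspaces.OmegaGL.sieg_mem_omega hQ hcard (by rw [hQT, hu, mul_zero]) ?_
      rw [hQ.polar_bilinear.smul_left, hpol, hw, mul_zero, mul_zero]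
    rw [← heq] at hΩ
    have hs := (hmem _).1 hΩ.1
    have hcen : ((sieg Q9 (pt (ev 0) (ev 0)) (pt (ev 0) (ev 1)) : G9) : M9) = cen (nU : M3) := by
      refine Matrix.ext fun p r => ?_
      have e0 : ((sieg Q9 (pt (ev 0) (ev 0)) (pt (ev 0) (ev 1)) : G9) : M9) p r =
          (((sieg Q9 (pt (ev 0) (ev 0)) (pt (ev 0) (ev 1)) : G9) : M9) *ᵥ Pi.single r 1) p := by
        rw [mulVec_single_one]; rfl
      rw [e0, lsieg_mulVec (isNondeg h2) hu hu1 (by rw [B_comm]; exact hw), polar_single h2, polar_single h2]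
      obtain ⟨i, l⟩ := p
      obtain ⟨k, m⟩ := r
      rw [show cen (nU : M3) (i, l) (k, m) = blk (cen (nU : M3)) i k l m from rfl, blk_cen]
      fin_cases i <;> fin_cases k <;> fin_cases l <;> fin_cases m <;> simp [pt, ev, rv, nU, Matrix.one_apply]
    exact cen_not_str (hcen ▸ hs)
  · obtain ⟨H, D, hH⟩ := hdata M hMle hM
    have full : (∀ u w : V9, Q9 u = 0 → QuadraticMap.polar Q9 w u = 0 → Root H u w) →
        M = Cfsg.Geo.omegaGL Q := by
      intro hall
      refine le_antisymm hMle (Cfsg.Agent.Lib.Subspaces.OmegaGL.omega_le hQ hcard fun u' w' hu hw => ?_)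
      obtain ⟨u, rfl⟩ := hTsurj u'
      obtain ⟨w, rfl⟩ := hTsurj w'
      have hu9 : Q9 u = 0 := by rw [hQT] at hu; exact (mul_eq_zero.1 hu).resolve_left hκ
      have hw9 : QuadraticMap.polar Q9 (κ • w) u = 0 := by
        rw [(isNondeg h2).polar_bilinear.smul_left]; rwa [hpol] at hw
      have := (hH _).1 (hall u (κ • w) hu9 hw9)
      rwa [hroot hu9 hw9, map_smul, inv_smul_smul₀ hκ] at this
    by_cases hR : NoRad H
    swap
    · exact Or.inr (full fun u w hu hw => all_roots D hR hu hw)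
    by_cases hR' : NoRad (swH H)
    swap
    · refine Or.inr (full fun u w hu hw => ?_)
      let s : G9 := toGL sw iso9_sw
      have hs : ∀ x : V9, Q9 ((s : M9) *ᵥ x) = Q9 x := fun x => iso_preserves h2 iso9_sw x
      have hinv : ∀ x : V9, (s : M9) *ᵥ ((s : M9) *ᵥ x) = x := fun x => by
        rw [mulVec_mulVec, show (s : M9) = sw from rfl, sw_sw, one_mulVec]
      have hu' : Q9 ((s : M9) *ᵥ u) = 0 := (hs u).trans hu
      have hw' : QuadraticMap.polar Q9 ((s : M9) *ᵥ w) ((s : M9) *ᵥ u) = 0 := by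
        rw [← hw]; simp only [QuadraticMap.polar, ← mulVec_add, hs]
      have h := all_roots (swapped D) hR' hu' hw'
      have e0 := congrArg (fun z : G9 => (z : M9)) (conj_sieg (isNondeg h2) (g := s) hs hu' hw')
      rw [hinv, hinv, Units.val_mul, Units.val_mul] at e0
      have hsinv : ((s⁻¹ : G9) : M9) = sw := a9_sw
      rw [hsinv] at e0
      show _ ∈ H
      rw [← e0]
      exact mem_swH.1 h
    refine Or.inl (le_antisymm (fun x hx => ⟨?_, hMle hx⟩) hM)
    have := (hmem (φ.symm x)).2 (Average.str_all D hR hR' ((hH _).2 (by rw [φ.apply_symm_apply]; exact hx)))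
    rwa [φ.apply_symm_apply] at this

end Cfsg.Agent.Lib.OrthSquareNine.Main
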