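import Mathlib.LinearAlgebra.Matrix.NonsingularInverse
import Mathlib.Algebra.Polynomial.Roots
import Mathlib.FieldTheory.Finite.Basic
import Mathlib.Tactic

/-!
The three-dimensional orthogonal group of the anti-diagonal form, odd characteristic, by matrices: unipotent
isometries, their commutants, and a commutation criterion for scalar matrices.
Owner: helper96.
-/

set_option autoImplicit false
set_option linter.unusedSectionVars false

namespace Cfsg.Agent.Lib.OrthSquareNine.O3

open Matrix

variable {F : Type*} [Field F]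

local notation "M3" => Matrix (Fin 3) (Fin 3) F

/-- The adjoint for the anti-diagonal form. -/
def ad (A : M3) : M3 := Matrix.of fun i j => A j.rev i.rev

theorem ad_apply (A : M3) (i j : Fin 3) : ad A i j = A j.rev i.rev := rfl

theorem ad_ad (A : M3) : ad (ad A) = A := by ext i j; simp [ad_apply]

theorem ad_one : ad (1 : M3) = 1 := by
  ext i j; simp [ad_apply, Matrix.one_apply, eq_comm, Fin.rev_inj]

theorem ad_mul (A C : M3) : ad (A * C) = ad C * ad A := by
  ext i j
  simp only [ad_apply, Matrix.mul_apply]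
  exact Fintype.sum_equiv Fin.revPerm _ _ fun k => by simp [mul_comm]

theorem ad_add (A C : M3) : ad (A + C) = ad A + ad C := by ext i j; simp [ad_apply]

theorem ad_sub (A C : M3) : ad (A - C) = ad A - ad C := by ext i j; simp [ad_apply]

theorem ad_smul (c : F) (A : M3) : ad (c • A) = c • ad A := by ext i j; simp [ad_apply]

/-- An isometry of the anti-diagonal form. -/
def Iso (g : M3) : Prop := ad g * g = 1

theorem Iso.right {g : M3} (h : Iso g) : g * ad g = 1 := mul_eq_one_comm.1 h

theorem Iso.mul {g k : M3} (hg : Iso g) (hk : Iso k) : Iso (g * k) := by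
  rw [Iso, ad_mul, mul_assoc, ← mul_assoc (ad g), hg, one_mul, hk]

theorem Iso.ad' {g : M3} (hg : Iso g) : Iso (ad g) := by rw [Iso, ad_ad]; exact hg.right

theorem iso_one : Iso (1 : M3) := by rw [Iso, ad_one, one_mul]

/-- The nilpotent generators. -/
def nU : M3 := !![0, -1, 0; 0, 0, 1; 0, 0, 0]

/-- The opposite nilpotent generator. -/
def nL : M3 := !![0, 0, 0; 1, 0, 0; 0, -1, 0]

/-- Upper unipotents. -/
def U (a : F) : M3 := !![1, -a, -(a ^ 2 / 2); 0, 1, a; 0, 0, 1]

/-- Lower unipotents. -/
def L (a : F) : M3 := !![1, 0, 0; a, 1, 0; -(a ^ 2 / 2), -a, 1]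

/-- The torus. -/
def tor (c : F) : M3 := !![c, 0, 0; 0, 1, 0; 0, 0, c⁻¹]

theorem nU_sq : (nU : M3) * nU = !![0, 0, -1; 0, 0, 0; 0, 0, 0] := by
  ext i j; fin_cases i <;> fin_cases j <;> simp [nU, Matrix.mul_apply, Fin.sum_univ_three]

theorem U_eq (a : F) : U a = 1 + a • nU + (a ^ 2 / 2) • ((nU : M3) * nU) := by
  rw [nU_sq]; ext i j; fin_cases i <;> fin_cases j <;> simp [U, nU]

theorem nL_sq : (nL : M3) * nL = !![0, 0, 0; 0, 0, 0; -1, 0, 0] := by
  ext i j; fin_cases i <;> fin_cases j <;> simp [nL, Matrix.mul_apply, Fin.sum_univ_three]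

theorem ad_nU : ad (nU : M3) = -nU := by
  ext i j; fin_cases i <;> fin_cases j <;> simp [ad_apply, nU, Fin.rev]

theorem ad_nL : ad (nL : M3) = -nL := by
  ext i j; fin_cases i <;> fin_cases j <;> simp [ad_apply, nL, Fin.rev]

theorem nU_cube : (nU : M3) * nU * nU = 0 := by
  rw [nU_sq]; ext i j; fin_cases i <;> fin_cases j <;> simp [nU, Matrix.mul_apply, Fin.sum_univ_three]

theorem ad_U (a : F) : ad (U a) = U (-a) := by
  ext i j; fin_cases i <;> fin_cases j <;> simp [ad_apply, U, Fin.rev]

theorem ad_L (a : F) : ad (L a) = L (-a) := by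
  ext i j; fin_cases i <;> fin_cases j <;> simp [ad_apply, L, Fin.rev]

theorem U_zero : U (0 : F) = 1 := by
  ext i j; fin_cases i <;> fin_cases j <;> simp [U]

theorem L_zero : L (0 : F) = 1 := by
  ext i j; fin_cases i <;> fin_cases j <;> simp [L]

variable (h2 : (2 : F) ≠ 0)

include h2 in
theorem U_mul (a b : F) : U a * U b = U (a + b) := by
  ext i j
  fin_cases i <;> fin_cases j <;> simp [U, Matrix.mul_apply, Fin.sum_univ_three] <;> first | ring1 | (field_simp; ring)

include h2 in
theorem L_mul (a b : F) : L a * L b = L (a + b) := by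
  ext i j
  fin_cases i <;> fin_cases j <;> simp [L, Matrix.mul_apply, Fin.sum_univ_three] <;> first | ring1 | (field_simp; ring)

include h2 in
theorem iso_U (a : F) : Iso (U a) := by rw [Iso, ad_U, U_mul h2, neg_add_cancel, U_zero]

include h2 in
theorem iso_L (a : F) : Iso (L a) := by rw [Iso, ad_L, L_mul h2, neg_add_cancel, L_zero]

theorem ad_tor (c : F) : ad (tor c) = tor c⁻¹ := by
  ext i j; fin_cases i <;> fin_cases j <;> simp [ad_apply, tor, Fin.rev]

theorem tor_mul (c d : F) : tor c * tor d = tor (c * d) := by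
  ext i j
  fin_cases i <;> fin_cases j <;> simp [tor, Matrix.mul_apply, Fin.sum_univ_three, mul_comm]

theorem tor_one : tor (1 : F) = 1 := by
  ext i j; fin_cases i <;> fin_cases j <;> simp [tor]

theorem iso_tor {c : F} (hc : c ≠ 0) : Iso (tor c) := by
  rw [Iso, ad_tor, tor_mul, inv_mul_cancel₀ hc, tor_one]

theorem tor_nU {c : F} (hc : c ≠ 0) : tor c * nU * tor c⁻¹ = c • (nU : M3) := by
  ext i j
  fin_cases i <;> fin_cases j <;> simp [tor, nU, Matrix.mul_apply, Fin.sum_univ_three, hc]

theorem tor_U {c : F} (hc : c ≠ 0) (a : F) : tor c * U a * tor c⁻¹ = U (c * a) := by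
  ext i j
  fin_cases i <;> fin_cases j <;> simp [tor, U, Matrix.mul_apply, Fin.sum_univ_three, hc] <;> ring

/-- The subgroup generated by the root groups, as a monoid of matrices. -/
def X : Submonoid M3 := Submonoid.closure (Set.range U ∪ Set.range L)

theorem U_mem (a : F) : U a ∈ (X : Submonoid M3) := Submonoid.subset_closure (Or.inl ⟨a, rfl⟩)

theorem L_mem (a : F) : L a ∈ (X : Submonoid M3) := Submonoid.subset_closure (Or.inr ⟨a, rfl⟩)

include h2 in
theorem iso_of_mem {g : M3} (hg : g ∈ (X : Submonoid M3)) : Iso g := by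
  induction hg using Submonoid.closure_induction with
  | mem x hx =>
    rcases hx with ⟨a, rfl⟩ | ⟨a, rfl⟩
    · exact iso_U h2 a
    · exact iso_L h2 a
  | one => exact iso_one
  | mul x y _ _ hx hy => exact hx.mul hy

theorem ad_mem {g : M3} (hg : g ∈ (X : Submonoid M3)) : ad g ∈ (X : Submonoid M3) := by
  induction hg using Submonoid.closure_induction with
  | mem x hx =>
    rcases hx with ⟨a, rfl⟩ | ⟨a, rfl⟩
    · rw [ad_U]; exact U_mem _
    · rw [ad_L]; exact L_mem _
  | one => rw [ad_one]; exact one_mem _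
  | mul x y _ _ hx hy => rw [ad_mul]; exact mul_mem hy hx

theorem ad_of_mem_val (g : M3) : ad (ad g) = g := ad_ad g

/-- The anti-diagonal form. -/
def bil (x y : Fin 3 → F) : F := x 0 * y 2 + x 1 * y 1 + x 2 * y 0

theorem bil_iso {g : M3} (hg : Iso g) (x y : Fin 3 → F) : bil (g *ᵥ x) (g *ᵥ y) = bil x y := by
  have key : ∀ (k l : Fin 3), (∑ i, g i.rev k * g i l) = if l = k.rev then 1 else 0 := by
    intro k l
    have h := congrFun (congrFun hg k.rev) l
    simp only [Matrix.mul_apply, ad_apply, Fin.rev_rev, Matrix.one_apply] at h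
    rw [h]
    exact if_congr eq_comm rfl rfl
  have e00 := key 0 0
  have e01 := key 0 1
  have e02 := key 0 2
  have e10 := key 1 0
  have e11 := key 1 1
  have e12 := key 1 2
  have e20 := key 2 0
  have e21 := key 2 1
  have e22 := key 2 2
  simp [Fin.sum_univ_three, Fin.rev] at e00 e01 e02 e10 e11 e12 e20 e21 e22
  simp only [bil, mulVec, dotProduct, Fin.sum_univ_three]
  linear_combination (x 0 * y 0) * e00 + (x 0 * y 1) * e01 + (x 0 * y 2) * e02 + (x 1 * y 0) * e10 +
    (x 1 * y 1) * e11 + (x 1 * y 2) * e12 + (x 2 * y 0) * e20 + (x 2 * y 1) * e21 + (x 2 * y 2) * e22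

/-- An isometry with first column the first basis vector and centre entry one is upper unipotent. -/
theorem eq_U_of_col {g : M3} (hg : Iso g) (h2 : (2 : F) ≠ 0) (h0 : g 0 0 = 1) (h10 : g 1 0 = 0)
    (h20 : g 2 0 = 0) (h11 : g 1 1 = 1) : g = U (g 1 2) := by
  have e : ∀ x y, bil (g *ᵥ x) (g *ᵥ y) = bil x y := bil_iso hg
  have e01 := e (Pi.single 0 1) (Pi.single 1 1)
  have e02 := e (Pi.single 0 1) (Pi.single 2 1)
  have e12 := e (Pi.single 1 1) (Pi.single 2 1)
  have e22 := e (Pi.single 2 1) (Pi.single 2 1)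
  simp [bil, h0, h10, h20, h11] at e01 e02 e12 e22
  have h21 : g 2 1 = 0 := e01
  have h22 : g 2 2 = 1 := e02
  rw [h21, h22] at e12
  rw [h22] at e22
  have h01 : g 0 1 = -g 1 2 := by linear_combination e12
  have h02 : g 0 2 = -(g 1 2 ^ 2 / 2) := by
    field_simp
    linear_combination e22
  ext i j
  fin_cases i <;> fin_cases j <;> simp [U, h0, h10, h20, h11, h21, h22, h01, h02]

include h2 in
/-- An element of `X` carries the first basis vector onto the line of a given singular vector. -/
theorem exists_move {w : Fin 3 → F} (hw : bil w w = 0) :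
    ∃ m ∈ (X : Submonoid M3), ∃ c : F, w = c • (m *ᵥ Pi.single 0 1) := by
  by_cases h : w 2 = 0
  · have h1 : w 1 = 0 := by
      simp [bil, h] at hw; exact hw
    refine ⟨1, one_mem _, w 0, funext fun i => ?_⟩
    fin_cases i <;> simp [h, h1]
  · refine ⟨U (w 1 / w 2) * (U 2 * L 1), mul_mem (U_mem _) (mul_mem (U_mem _) (L_mem _)), -2 * w 2, ?_⟩
    have hw0 : w 0 = -(w 1 ^ 2 / (2 * w 2)) := by
      simp only [bil] at hw; field_simp; linear_combination hw
    funext i
    fin_cases i <;> simp [U, L, mulVec, dotProduct, Matrix.mul_apply, Fin.sum_univ_three, Matrix.vecHead,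
      Matrix.vecTail] <;> (try rw [hw0]) <;> (try field_simp) <;> (try ring1)

include h2 in
/-- A unipotent isometry is conjugate in `X` to an upper one. -/
theorem exists_conj_U {g : M3} (hg : Iso g) (hn : (g - 1) ^ 3 = 0) :
    ∃ m ∈ (X : Submonoid M3), ∃ a : F, ad m * g * m = U a := by
  rcases eq_or_ne g 1 with rfl | hne
  · exact ⟨1, one_mem _, 0, by rw [ad_one, mul_one, mul_one, U_zero]⟩
  obtain ⟨z, hz, hz'⟩ : ∃ z, (g - 1) *ᵥ z ≠ 0 ∧ (g - 1) *ᵥ ((g - 1) *ᵥ z) = 0 := by
    by_cases hsq : (g - 1) * (g - 1) = 0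
    · obtain ⟨z, hz⟩ : ∃ z, (g - 1) *ᵥ z ≠ 0 := by
        by_contra h
        push Not at h
        exact hne (sub_eq_zero.1 (Matrix.ext fun i j => by
          simpa [mulVec_single_one] using congrFun (h (Pi.single j 1)) i))
      exact ⟨z, hz, by rw [mulVec_mulVec, hsq, zero_mulVec]⟩
    · obtain ⟨z, hz⟩ : ∃ z, ((g - 1) * (g - 1)) *ᵥ z ≠ 0 := by
        by_contra h
        push Not at h
        exact hsq (Matrix.ext fun i j => by
          simpa [mulVec_single_one] using congrFun (h (Pi.single j 1)) i)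
      refine ⟨(g - 1) *ᵥ z, by rwa [mulVec_mulVec], ?_⟩
      rw [mulVec_mulVec, mulVec_mulVec, show (g - 1) * (g - 1) * (g - 1) = (g - 1) ^ 3 by
        rw [pow_succ, pow_two], hn, zero_mulVec]
  set w := (g - 1) *ᵥ z with hw
  have hgw : g *ᵥ w = w := by
    rw [sub_mulVec, one_mulVec, sub_eq_zero] at hz'; exact hz'
  have hww : bil w w = 0 := by
    have h1 : bil (g *ᵥ z) (g *ᵥ w) = bil z w := bil_iso hg z w
    rw [hgw] at h1
    have h3 : bil w w = bil (g *ᵥ z) w - bil z w := by
      conv_lhs => arg 1; rw [hw, sub_mulVec, one_mulVec]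
      simp [bil]; ring
    rw [h3, h1, sub_self]
  obtain ⟨m, hm, c, hmc⟩ := exists_move h2 hww
  have hmi := iso_of_mem h2 hm
  set k := ad m * g * m with hk
  have hki : Iso k := (hmi.ad'.mul hg).mul hmi
  have hk1 : k *ᵥ Pi.single 0 1 = Pi.single 0 1 := by
    have hc : c ≠ 0 := fun e => hz (by rw [hmc, e, zero_smul])
    have h1 : g *ᵥ (m *ᵥ Pi.single 0 1) = m *ᵥ Pi.single 0 1 := by
      refine smul_right_injective (Fin 3 → F) hc ?_
      show c • _ = c • _
      rw [← mulVec_smul, ← hmc, hgw]
    rw [hk, ← mulVec_mulVec, ← mulVec_mulVec, h1, mulVec_mulVec, hmi, one_mulVec]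
  have hkn : (k - 1) ^ 3 = 0 := by
    have : k - 1 = ad m * (g - 1) * m := by rw [mul_sub, mul_one, sub_mul, hk, hmi]
    rw [this, pow_succ, pow_two]
    calc ad m * (g - 1) * m * (ad m * (g - 1) * m) * (ad m * (g - 1) * m)
        = ad m * ((g - 1) * (m * ad m) * (g - 1) * (m * ad m) * (g - 1)) * m := by noncomm_ring
      _ = 0 := by
        rw [hmi.right, mul_one, mul_one, show (g - 1) * (g - 1) * (g - 1) = (g - 1) ^ 3 by
          rw [pow_succ, pow_two], hn, mul_zero, zero_mul]
  have c0 := congrFun hk1 0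
  have c1 := congrFun hk1 1
  have c2 := congrFun hk1 2
  simp at c0 c1 c2
  refine ⟨m, hm, k 1 2, eq_U_of_col hki h2 c0 c1 c2 ?_⟩
  -- the centre entry
  have e := bil_iso hki (Pi.single 0 1) (Pi.single 1 1)
  simp [bil, c0, c1, c2] at e
  have h3 := congrFun (congrFun hkn 1) 1
  rw [pow_succ, pow_two] at h3
  simp [Matrix.mul_apply, Fin.sum_univ_three, c1, e] at h3
  rw [c2, mul_zero, zero_mul, zero_add, ← pow_two, ← pow_succ] at h3
  exact sub_eq_zero.1 (eq_zero_of_pow_eq_zero h3)

/-- An isometry commuting with a non-trivial upper unipotent. -/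
theorem comm_nU {g : M3} {a : F} (h2 : (2 : F) ≠ 0) (ha : a ≠ 0) (h : g * U a = U a * g) :
    g * nU = nU * g := by
  set V : M3 := a • nU + (a ^ 2 / 2) • (nU * nU) with hV
  have hc : Commute g V := by
    have e : V = U a - 1 := by rw [U_eq, hV]; abel
    rw [e]
    show g * (U a - 1) = (U a - 1) * g
    rw [mul_sub, sub_mul, h, mul_one, one_mul]
  have h4 : (nU : M3) * nU * (nU * nU) = 0 := by rw [← mul_assoc, nU_cube, zero_mul]
  have hVV : V * V = (a ^ 2) • (nU * nU) := by
    simp only [hV, add_mul, mul_add, smul_mul_assoc, mul_smul_comm, nU_cube,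
      show (nU : M3) * (nU * nU) = 0 by rw [← mul_assoc, nU_cube], h4, smul_zero, add_zero, smul_smul]
    rw [sq]
  have hc2 : Commute g ((nU : M3) * nU) := by
    have := hc.mul_right hc
    rw [hVV] at this
    have := this.smul_right (a ^ 2)⁻¹
    rwa [smul_smul, inv_mul_cancel₀ (pow_ne_zero 2 ha), one_smul] at this
  have := (hc.sub_right (hc2.smul_right (a ^ 2 / 2))).smul_right a⁻¹
  rw [hV, add_sub_cancel_right, smul_smul, inv_mul_cancel₀ ha, one_smul] at this
  exact this

/-- An isometry commuting with the nilpotent generator is a sign times an upper unipotent. -/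
theorem eq_sign_U {g : M3} (hg : Iso g) (h2 : (2 : F) ≠ 0) (h : g * nU = nU * g) :
    ∃ x b : F, x * x = 1 ∧ g = x • U b := by
  have e : ∀ i j, (g * (nU : M3)) i j = ((nU : M3) * g) i j := fun i j => by rw [h]
  have a00 := e 0 0
  have a01 := e 0 1
  have a10 := e 1 0
  have a11 := e 1 1
  simp [nU, Matrix.mul_apply, Fin.sum_univ_three] at a00 a01 a10 a11
  have h10 : g 1 0 = 0 := by linear_combination a00
  have h20 : g 2 0 = 0 := by linear_combination -a10
  have h11 : g 1 1 = g 0 0 := a01.symm
  have hx : g 0 0 * g 0 0 = 1 := by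
    have e11 := bil_iso hg (Pi.single 1 1) (Pi.single 1 1)
    simp [bil] at e11
    have h21 : g 2 1 = 0 := by linear_combination -a11 - h10
    rw [h21, h11] at e11
    linear_combination e11
  set x := g 0 0
  have hx0 : x ≠ 0 := fun e => by rw [e, mul_zero] at hx; exact zero_ne_one hx
  have hxi : x⁻¹ = x := inv_eq_of_mul_eq_one_left hx
  have hg' : Iso (x • g) := by
    rw [Iso, ad_smul, smul_mul_assoc, mul_smul_comm, smul_smul, hx, one_smul]; exact hg
  refine ⟨x, (x • g) 1 2, hx, ?_⟩
  rw [← eq_U_of_col hg' h2 (by simp [hx, x]) (by simp [h10]) (by simp [h20]) (by simp [h11, hx, x]), smul_smul,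
    hx, one_smul]

theorem eq_U_of_comm {g : M3} (hg : Iso g) (h2 : (2 : F) ≠ 0) (hn : (g - 1) ^ 3 = 0)
    (h : g * nU = nU * g) : ∃ b, g = U b := by
  obtain ⟨x, b, hx, rfl⟩ := eq_sign_U hg h2 h
  have h3 := congrFun (congrFun hn 0) 0
  rw [pow_succ, pow_two] at h3
  simp [U, Matrix.mul_apply, Fin.sum_univ_three] at h3
  rw [sub_eq_zero.1 h3, one_smul]
  exact ⟨b, rfl⟩

/-- A skew matrix commuting with the nilpotent generator is a multiple of it. -/
theorem skew_comm {Z : M3} (h2 : (2 : F) ≠ 0) (hZ : ad Z = -Z) (h : Z * nU = nU * Z) : Z = Z 1 2 • nU := by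
  have e : ∀ i j, (Z * (nU : M3)) i j = ((nU : M3) * Z) i j := fun i j => by rw [h]
  have s : ∀ i j : Fin 3, Z j.rev i.rev = -Z i j := fun i j => congrFun (congrFun hZ i) j
  have a00 := e 0 0
  have a01 := e 0 1
  have a10 := e 1 0
  simp [nU, Matrix.mul_apply, Fin.sum_univ_three] at a00 a01 a10
  have s11 := s 1 1
  have s02 := s 0 2
  have s01 := s 0 1
  have s00 := s 0 0
  have s10 := s 1 0
  simp [Fin.rev] at s11 s02 s01 s00 s10
  have z11 : Z 1 1 = 0 := (mul_eq_zero.1 (show (2 : F) * Z 1 1 = 0 by linear_combination s11)).resolve_left h2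
  have z02 : Z 0 2 = 0 := (mul_eq_zero.1 (show (2 : F) * Z 0 2 = 0 by linear_combination s02)).resolve_left h2
  have z10 : Z 1 0 = 0 := by linear_combination a00
  have z20 : Z 2 0 = 0 := a10.symm
  have z00 : Z 0 0 = 0 := a01.trans z11
  have z22 : Z 2 2 = 0 := by linear_combination s00 - z00
  have z21 : Z 2 1 = 0 := by linear_combination s10 - z10
  have z01 : Z 0 1 = -Z 1 2 := by linear_combination s01
  ext i j
  fin_cases i <;> fin_cases j <;> simp [nU, z11, z02, z10, z20, z00, z22, z21, z01]

variable [Finite F]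

/-- A polynomial of degree at most four vanishing on a field with at least five elements is zero. -/
theorem coeff_zero (h5 : 5 ≤ Nat.card F) (c0 c1 c2 c3 c4 : F)
    (h : ∀ s : F, c0 + c1 * s + c2 * s ^ 2 + c3 * s ^ 3 + c4 * s ^ 4 = 0) :
    c0 = 0 ∧ c1 = 0 ∧ c2 = 0 ∧ c3 = 0 ∧ c4 = 0 := by
  classical
  have := Fintype.ofFinite F
  rw [Nat.card_eq_fintype_card] at h5
  set p : Polynomial F := Polynomial.C c0 + Polynomial.C c1 * Polynomial.X + Polynomial.C c2 * Polynomial.X ^ 2 +
    Polynomial.C c3 * Polynomial.X ^ 3 + Polynomial.C c4 * Polynomial.X ^ 4 with hp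
  have hev : ∀ s, p.eval s = 0 := fun s => by simpa [hp] using h s
  have hdeg : p.natDegree ≤ 4 := by
    rw [hp]; compute_degree
  have h0 : p = 0 := Polynomial.eq_zero_of_natDegree_lt_card_of_eval_eq_zero p Function.injective_id
    (fun s => hev s) (by omega)
  refine ⟨?_, ?_, ?_, ?_, ?_⟩
  · have := congrArg (fun r => Polynomial.coeff r 0) h0; simpa [hp] using this
  · have := congrArg (fun r => Polynomial.coeff r 1) h0; simpa [hp, Polynomial.coeff_X, Polynomial.coeff_C] using this
  · have := congrArg (fun r => Polynomial.coeff r 2) h0; simpa [hp, Polynomial.coeff_X, Polynomial.coeff_C] using this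
  · have := congrArg (fun r => Polynomial.coeff r 3) h0; simpa [hp, Polynomial.coeff_X, Polynomial.coeff_C] using this
  · have := congrArg (fun r => Polynomial.coeff r 4) h0; simpa [hp, Polynomial.coeff_X, Polynomial.coeff_C] using this

/-- A self-adjoint matrix commuting with its conjugates under the root groups is scalar. -/
theorem scalar_of_comm (h2 : (2 : F) ≠ 0) (h5 : 5 ≤ Nat.card F) {φ : M3} (hφ : ad φ = φ)
    (hU : ∀ s, φ * (U s * φ * U (-s)) = U s * φ * U (-s) * φ)
    (hL : ∀ s, φ * (L s * φ * L (-s)) = L s * φ * L (-s) * φ) : φ = φ 0 0 • 1 := by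
  set a := φ 0 0 with ha
  set b := φ 0 1
  set c := φ 0 2
  set d := φ 1 0
  set h := φ 2 0
  set g := φ 1 1
  have s : ∀ i j : Fin 3, φ j.rev i.rev = φ i j := fun i j => congrFun (congrFun hφ i) j
  have s00 := s 0 0
  have s01 := s 0 1
  have s10 := s 1 0
  simp [Fin.rev] at s00 s01 s10
  have hX : φ = !![a, b, c; d, g, b; h, d, a] := by
    ext i j; fin_cases i <;> fin_cases j <;> simp [a, b, c, d, g, h, s00, s01, s10]
  have h4ne : (4 : F) ≠ 0 := by rw [show (4 : F) = 2 * 2 by norm_num]; exact mul_ne_zero h2 h2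
  have hh : h = 0 := by
    have := coeff_zero h5 0 (-(a * d) + 3 * b * h + d * g) (a * h + 3 / 2 * d ^ 2 - g * h) (-(d * h) / 2)
      (-(h ^ 2) / 4) fun t => by
        have := congrFun (congrFun (hU t) 0) 0
        rw [hX] at this
        simp [U, Matrix.mul_apply, Fin.sum_univ_three] at this
        first
          | linear_combination (norm := (field_simp; ring1)) this
          | linear_combination (norm := (field_simp; ring1)) -this
    have h4 := this.2.2.2.2
    rw [neg_div, neg_eq_zero, div_eq_zero_iff] at h4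
    exact pow_eq_zero_iff (two_ne_zero) |>.1 (h4.resolve_right (by
      rw [show (4 : F) = 2 * 2 by norm_num]; exact mul_ne_zero h2 h2))
  have hc : c = 0 := by
    have := coeff_zero h5 0 (a * b - b * g - 3 * c * d) (-(a * c) - 3 / 2 * b ^ 2 + c * g) (b * c / 2)
      (c ^ 2 / 4) fun t => by
        have := congrFun (congrFun (hL t) 0) 0
        rw [hX] at this
        simp [L, Matrix.mul_apply, Fin.sum_univ_three] at this
        first
          | linear_combination (norm := (field_simp; ring1)) this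
          | linear_combination (norm := (field_simp; ring1)) -this
    have h4 := this.2.2.2.2
    rw [div_eq_zero_iff] at h4
    exact pow_eq_zero_iff (two_ne_zero) |>.1 (h4.resolve_right (by
      rw [show (4 : F) = 2 * 2 by norm_num]; exact mul_ne_zero h2 h2))
  rw [hh, hc] at hX
  have hU' := coeff_zero h5 0 (-2 * a * g + a ^ 2 + 5 * b * d + g ^ 2) (-(a * d) / 2 + d * g / 2) (-(d ^ 2)) 0
    fun t => by
      have := congrFun (congrFun (hU t) 0) 1
      rw [hX] at this
      simp [U, Matrix.mul_apply, Fin.sum_univ_three] at this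
      first
        | linear_combination (norm := (field_simp; ring1)) this
        | linear_combination (norm := (field_simp; ring1)) -this
  have hd : d = 0 := pow_eq_zero_iff (two_ne_zero) |>.1 (neg_eq_zero.1 hU'.2.2.2.1)
  have hL' := coeff_zero h5 0 (2 * a * g - a ^ 2 - 5 * b * d - g ^ 2) (a * b / 2 - b * g / 2) (b ^ 2) 0
    fun t => by
      have := congrFun (congrFun (hL t) 1) 0
      rw [hX] at this
      simp [L, Matrix.mul_apply, Fin.sum_univ_three] at this
      first
        | linear_combination (norm := (field_simp; ring1)) this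
        | linear_combination (norm := (field_simp; ring1)) -this
  have hb : b = 0 := pow_eq_zero_iff (two_ne_zero) |>.1 hL'.2.2.2.1
  have hg : g = a := by
    have := hU'.2.1
    rw [hd] at this
    exact sub_eq_zero.1 (pow_eq_zero_iff (two_ne_zero) |>.1 (show (g - a) ^ 2 = 0 by linear_combination this))
  rw [hb, hd, hg] at hX
  conv_lhs => rw [hX]
  ext i j; fin_cases i <;> fin_cases j <;> simp

include h2 in
theorem conj_mem {g x : M3} (hg : Iso g) (hx : x ∈ (X : Submonoid M3)) : g * x * ad g ∈ (X : Submonoid M3) := by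
  have key : ∀ u : M3, Iso u → (u - 1) ^ 3 = 0 → g * u * ad g ∈ (X : Submonoid M3) := by
    intro u hu hun
    have hi : Iso (g * u * ad g) := (hg.mul hu).mul hg.ad'
    have hn : (g * u * ad g - 1) ^ 3 = 0 := by
      have e : g * u * ad g - 1 = g * (u - 1) * ad g := by rw [mul_sub, mul_one, sub_mul, hg.right]
      rw [e, pow_succ, pow_two]
      calc g * (u - 1) * ad g * (g * (u - 1) * ad g) * (g * (u - 1) * ad g)
          = g * ((u - 1) * (ad g * g) * (u - 1) * (ad g * g) * (u - 1)) * ad g := by noncomm_ring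
        _ = 0 := by
          rw [hg, mul_one, mul_one, show (u - 1) * (u - 1) * (u - 1) = (u - 1) ^ 3 by rw [pow_succ, pow_two],
            hun, mul_zero, zero_mul]
    obtain ⟨m, hm, a, ha⟩ := exists_conj_U h2 hi hn
    have : g * u * ad g = m * U a * ad m := by
      rw [← ha]
      simp only [← mul_assoc, (iso_of_mem h2 hm).right, one_mul]
      simp only [mul_assoc, (iso_of_mem h2 hm).right, mul_one]
    rw [this]
    exact mul_mem (mul_mem hm (U_mem a)) (ad_mem hm)
  induction hx using Submonoid.closure_induction with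
  | mem y hy =>
    rcases hy with ⟨a, rfl⟩ | ⟨a, rfl⟩
    · refine key _ (iso_U h2 a) ?_
      rw [pow_succ, pow_two]
      ext i j; fin_cases i <;> fin_cases j <;> simp [U, Matrix.mul_apply, Fin.sum_univ_three]
    · refine key _ (iso_L h2 a) ?_
      rw [pow_succ, pow_two]
      ext i j; fin_cases i <;> fin_cases j <;> simp [L, Matrix.mul_apply, Fin.sum_univ_three]
  | one => rw [mul_one, hg.right]; exact one_mem _
  | mul y z _ _ hy hz =>
    have : g * (y * z) * ad g = g * y * ad g * (g * z * ad g) := by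
      simp only [mul_assoc]
      rw [← mul_assoc (ad g) g, hg, one_mul]
    rw [this]; exact mul_mem hy hz

end Cfsg.Agent.Lib.OrthSquareNine.O3
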