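import Cfsg.Agent.Lib.OrthSquareNine.Fusion
import Cfsg.Agent.Lib.OrthSquareNine.Form

/-!
A new radical element gives every Siegel element.
Owner: helper96.
-/

set_option autoImplicit false
set_option linter.unusedSectionVars false

namespace Cfsg.Agent.Lib.OrthSquareNine.Radical

open Matrix Kronecker Cfsg.Agent.Lib.OrthSquareNine.O3 Cfsg.Agent.Lib.OrthSquareNine.Kron
  Cfsg.Agent.Lib.OrthSquareNine.Fusion Cfsg.Agent.Lib.OrthSquareNine.Form
  Cfsg.Agent.Lib.Subspaces.OrthForm Cfsg.Agent.Lib.Subspaces.OrthLines Cfsg.Agent.Lib.Subspaces.Transvection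

variable {F : Type*} [Field F] [Finite F]

local notation "M3" => Matrix (Fin 3) (Fin 3) F
local notation "M9" => Matrix (Fin 3 × Fin 3) (Fin 3 × Fin 3) F
local notation "V9" => (Fin 3 × Fin 3 → F)

variable {H : Submonoid (Matrix (Fin 3 × Fin 3) (Fin 3 × Fin 3) F)}

/-- The central elements of the radical. -/
def cen (a : M3) : M9 := 1 + Matrix.single 0 2 (1 : F) ⊗ₖ a

theorem blk_cen (a : M3) (i k : Fin 3) :
    blk (cen a) i k = (if i = k then 1 else 0) + (if i = 0 ∧ k = 2 then a else 0) := by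
  rw [cen, blk_add, blk_one, blk_kron, Matrix.single_apply]
  congr 1
  by_cases h : i = 0 ∧ k = 2
  · rw [if_pos h, if_pos (by tauto), one_smul]
  · rw [if_neg h, if_neg (by tauto), zero_smul]

theorem cen_mul (a b : M3) : cen a * cen b = cen (a + b) := by
  simp only [cen, mul_add, add_mul, one_mul, mul_one, ← mul_kronecker_mul, kronecker_add]
  rw [Matrix.single_mul_single_of_ne (c := (1 : F)) (0 : Fin 3) 2 (0 : Fin 3) (by decide) (1 : F), zero_kronecker]
  abel

theorem a9_cen {a : M3} (ha : ad a = -a) : a9 (cen a) = cen (-a) := by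
  refine blk_ext fun i k => ?_
  rw [blk_a9, blk_cen, blk_cen]
  fin_cases i <;> fin_cases k <;> simp [Fin.rev, ad_one, ha, show ad (0 : M3) = 0 by ext; simp [ad_apply]]

theorem cj_kron_cen {A B : M3} (hA : Iso A) (hB : Iso B) {t : F}
    (hAt : A * Matrix.single 0 2 (1 : F) * ad A = t • Matrix.single 0 2 (1 : F)) (a : M3) :
    cj (A ⊗ₖ B) (cen a) = cen (t • (B * a * ad B)) := by
  rw [cen, map_add, cj_unit (iso9_kron hA hB), cj_kron, hAt, smul_kronecker, cen, kronecker_smul]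

theorem tor_single (c : F) (hc : c ≠ 0) :
    tor c * Matrix.single 0 2 (1 : F) * ad (tor c) = c ^ 2 • Matrix.single 0 2 (1 : F) := by
  rw [ad_tor]
  ext i j
  fin_cases i <;> fin_cases j <;> simp [tor, Matrix.mul_apply, Fin.sum_univ_three, Matrix.vecMul, dotProduct, sq]

/-- A commutator of radical elements. -/
theorem commutator {r s : M9} (hr : Rad r) (hs : Rad s) (hri : Iso9 r) (hsi : Iso9 s) :
    r * s * a9 r * a9 s = cen (blk r 0 1 * blk s 1 2 - blk s 0 1 * blk r 1 2) := by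
  have hrs := hr.mul hs
  have hrs' := hr.a9'.mul hs.a9'
  obtain ⟨r12, r02, r01⟩ := hr.iso_blk hri
  obtain ⟨s12, s02, s01⟩ := hs.iso_blk hsi
  obtain ⟨a1, a2, a3⟩ := hr.mul_blk hs
  obtain ⟨b1, b2, b3⟩ := hr.a9'.mul_blk hs.a9'
  obtain ⟨c1, c2, c3⟩ := hrs.mul_blk hrs'
  have d := hrs.mul hrs'
  rw [show r * s * a9 r * a9 s = r * s * (a9 r * a9 s) by rw [mul_assoc (r * s)]]
  have e12 : ∀ {x : M9}, blk (a9 x) 1 2 = ad (blk x 0 1) := by intro x; simp [blk_a9, Fin.rev]
  have e01 : ∀ {x : M9}, blk (a9 x) 0 1 = ad (blk x 1 2) := by intro x; simp [blk_a9, Fin.rev]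
  have e02 : ∀ {x : M9}, blk (a9 x) 0 2 = ad (blk x 0 2) := by intro x; simp [blk_a9, Fin.rev]
  rw [e01, e01] at b1
  rw [e12, e12] at b2
  rw [e01, e12, e02, e02] at b3
  have fr1 : ad (blk r 1 2) = -blk r 0 1 := by rw [r01, neg_neg]
  have fs1 : ad (blk s 1 2) = -blk s 0 1 := by rw [s01, neg_neg]
  have fr0 : ad (blk r 0 1) = -blk r 1 2 := by rw [r12, neg_neg]
  have fs0 : ad (blk s 0 1) = -blk s 1 2 := by rw [s12, neg_neg]
  have gr : ad (blk r 0 2) = blk r 0 1 * blk r 1 2 - blk r 0 2 := eq_sub_of_add_eq r02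
  have gs : ad (blk s 0 2) = blk s 0 1 * blk s 1 2 - blk s 0 2 := eq_sub_of_add_eq s02
  rw [fr1, fs1] at b1
  rw [fr0, fs0] at b2
  rw [fr1, fs0, gr, gs] at b3
  refine blk_ext fun i k => ?_
  rw [blk_cen]
  fin_cases i <;> fin_cases k
  · simpa using d.d0
  · simpa [a1, b1] using c1.trans (by rw [a1, b1]; abel)
  · simp only [show ((⟨0, by omega⟩ : Fin 3) = 0) from rfl, show ((⟨2, by omega⟩ : Fin 3) = 2) from rfl]
    rw [c3, a3, b3, a1, b2, if_neg (by decide), if_pos (by simp), zero_add]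
    noncomm_ring
  · simpa using d.l10
  · simpa using d.d1
  · simpa [a2, b2] using c2.trans (by rw [a2, b2]; abel)
  · simpa using d.l20
  · simpa using d.l21
  · simpa using d.d2

/-- A new radical element gives a new central one. -/
theorem exists_cen (D : Cfsg.Agent.Lib.OrthSquareNine.Kron.Data H) (hR : ¬ NoRad H) :
    ∃ a : M3, ad a = -a ∧ a ≠ 0 ∧ cen a ∈ H := by
  have h2 := D.two
  simp only [NoRad, not_forall] at hR
  obtain ⟨r, hrH, hr, hne⟩ := hR
  have hri := D.iso r hrH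
  obtain ⟨r12, r02, r01⟩ := hr.iso_blk hri
  have comm : ∀ s ∈ H, Rad s →
      cen (blk r 0 1 * blk s 1 2 - blk s 0 1 * blk r 1 2) ∈ H := fun s hs hsr => by
    rw [← commutator hr hsr hri (D.iso s hs)]
    exact mul_mem (mul_mem (mul_mem hrH hs) (D.inv r hrH)) (D.inv s hs)
  set φ := blk r 0 1 with hφ
  have h2' : (2 : F) • φ ≠ 0 ∨ φ = 0 := by
    rcases eq_or_ne φ 0 with h | h
    · exact Or.inr h
    · exact Or.inl (smul_ne_zero h2 h)
  by_cases hsym : ad φ = φ
  swap
  · refine ⟨φ - ad φ, by rw [ad_sub, ad_ad, neg_sub], fun h => hsym (sub_eq_zero.1 h).symm, ?_⟩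
    have := comm _ (D.genA 1).1 (rad_U 1)
    rw [r12, blk_kron, blk_kron] at this
    simpa [U, sub_eq_add_neg] using this
  by_cases hco : ∀ x ∈ (X : Submonoid M3), φ * (x * φ * ad x) = x * φ * ad x * φ
  swap
  · simp only [not_forall] at hco
    obtain ⟨x, hx, hco⟩ := hco
    have hxi := iso_of_mem h2 hx
    set ψ := x * φ * ad x with hψ
    have hs : cj ((1 : M3) ⊗ₖ x) r ∈ H := D.cj_mem (D.right_mem hx) hrH
    have hsr : Rad (cj ((1 : M3) ⊗ₖ x) r) := by
      constructor <;> rw [cj_apply, a9_kron, ad_one, blk_mul, blk_mul, blk_mul, blk_mul] <;>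
        simp [blk_kron, hr.d0, hr.d1, hr.d2, hr.l10, hr.l20, hr.l21, hxi.right]
    have := comm _ hs hsr
    have s01 : blk (cj ((1 : M3) ⊗ₖ x) r) 0 1 = ψ := by
      rw [cj_apply, a9_kron, ad_one, blk_mul, blk_mul, blk_mul, blk_mul]
      simp [blk_kron, hψ, hφ]
    have s12 : blk (cj ((1 : M3) ⊗ₖ x) r) 1 2 = -ψ := by
      rw [cj_apply, a9_kron, ad_one, blk_mul, blk_mul, blk_mul, blk_mul]
      simp [blk_kron, hψ, r12, hsym]
    rw [s01, s12, r12, hsym] at this
    refine ⟨ψ * φ - φ * ψ, ?_, fun h => hco (sub_eq_zero.1 h).symm, ?_⟩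
    · have hψs : ad ψ = ψ := by simp only [hψ, ad_mul, ad_ad, hsym, mul_assoc]
      rw [neg_sub, ad_sub, ad_mul φ ψ, ad_mul ψ φ, hψs, hsym]
    · convert this using 2
      noncomm_ring
  have hsc : φ = φ 0 0 • 1 := by
    refine scalar_of_comm h2 D.five hsym (fun s => ?_) fun s => ?_
    · have := hco _ (U_mem s); rwa [ad_U] at this
    · have := hco _ (L_mem s); rwa [ad_L] at this
  set d := φ 0 0
  set r' := (U d ⊗ₖ (1 : M3)) * r with hr'
  have hm : r' ∈ H := mul_mem (D.genA d).1 hrH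
  have hrad' : Rad r' := (rad_U d).mul hr
  obtain ⟨q01, -, -⟩ := (rad_U d).mul_blk hr
  have z01 : blk r' 0 1 = 0 := by
    rw [hr', q01, ← hφ, hsc, blk_kron]; simp [U]
  obtain ⟨j1, j2, -⟩ := hrad'.iso_blk (D.iso _ hm)
  have z12 : blk r' 1 2 = 0 := by rw [j1, z01, show ad (0 : M3) = 0 by ext; simp [ad_apply], neg_zero]
  have he : r' = cen (blk r' 0 2) := by
    refine blk_ext fun i k => ?_
    rw [blk_cen]
    fin_cases i <;> fin_cases k <;>
      simp [hrad'.d0, hrad'.d1, hrad'.d2, hrad'.l10, hrad'.l20, hrad'.l21, z01, z12]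
  refine ⟨blk r' 0 2, by rw [z01, zero_mul] at j2; exact eq_neg_of_add_eq_zero_left j2, fun h => hne ⟨-d, ?_⟩, he ▸ hm⟩
  have h1 : r' = 1 := by
    rw [he, h, cen, kronecker_zero, add_zero]
  have := congrArg (fun Y => (U (-d) ⊗ₖ (1 : M3)) * Y) (hr'.symm.trans h1)
  rwa [← mul_assoc, ← mul_kronecker_mul, U_mul h2, neg_add_cancel, U_zero, mul_one, one_kronecker_one, one_mul,
    mul_one] at this

/-- Coordinates of the skew matrices. -/
def sk (x y z : F) : M3 := !![z, -x, 0; y, 0, x; 0, -y, -z]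

theorem sk_sub (x y z x' y' z' : F) : sk x y z - sk x' y' z' = sk (x - x') (y - y') (z - z') := by
  ext i j; fin_cases i <;> fin_cases j <;> simp [sk] <;> ring

theorem smul_nU_eq_sk (t : F) : t • (nU : M3) = sk t 0 0 := by
  ext i j; fin_cases i <;> fin_cases j <;> simp [sk, nU]

theorem U_sk (h2 : (2 : F) ≠ 0) (t x y z : F) :
    U t * sk x y z * ad (U t) = sk (x - t * z + t ^ 2 / 2 * y) y (z - t * y) := by
  rw [ad_U]
  ext i j
  fin_cases i <;> fin_cases j <;> simp [U, sk, Matrix.mul_apply, Fin.sum_univ_three] <;> field_simp <;> ring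

theorem L_sk (h2 : (2 : F) ≠ 0) (t x y z : F) :
    L t * sk x y z * ad (L t) = sk x (y + t * z + t ^ 2 / 2 * x) (z + t * x) := by
  rw [ad_L]
  ext i j
  fin_cases i <;> fin_cases j <;> simp [L, sk, Matrix.mul_apply, Fin.sum_univ_three] <;> field_simp <;> ring

theorem eq_sk (h2 : (2 : F) ≠ 0) {a : M3} (ha : ad a = -a) : a = sk (a 1 2) (a 1 0) (a 0 0) := by
  have s : ∀ i j : Fin 3, a j.rev i.rev = -a i j := fun i j => congrFun (congrFun ha i) j
  have s00 := s 0 0; have s01 := s 0 1; have s02 := s 0 2; have s10 := s 1 0; have s11 := s 1 1; have s20 := s 2 0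
  simp [Fin.rev] at s00 s01 s02 s10 s11 s20
  have z02 : a 0 2 = 0 := (mul_eq_zero.1 (show (2 : F) * a 0 2 = 0 by linear_combination s02)).resolve_left h2
  have z11 : a 1 1 = 0 := (mul_eq_zero.1 (show (2 : F) * a 1 1 = 0 by linear_combination s11)).resolve_left h2
  have z20 : a 2 0 = 0 := (mul_eq_zero.1 (show (2 : F) * a 2 0 = 0 by linear_combination s20)).resolve_left h2
  ext i j
  fin_cases i <;> fin_cases j <;> simp [sk, s00, s01, s10, z02, z11, z20]

/-- The skew matrices are spanned by the conjugates of the upper nilpotent ones. -/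
theorem skew_span (h2 : (2 : F) ≠ 0) (Z : AddSubgroup M3) (hconj : ∀ x ∈ (X : Submonoid M3), ∀ a ∈ Z, x * a * ad x ∈ Z)
    (hN : ∀ t : F, sk t 0 0 ∈ Z) {a : M3} (ha : ad a = -a) : a ∈ Z := by
  have hL : ∀ t : F, sk 0 t 0 ∈ Z := by
    intro t
    have := hconj _ (U_mem (2 : F)) _ (hconj _ (L_mem 1) _ (hN (2 * t)))
    rw [L_sk h2, U_sk h2] at this
    convert this using 2 <;> field_simp <;> ring
  have hD : ∀ t : F, sk 0 0 t ∈ Z := by
    intro t
    have := sub_mem (hconj _ (L_mem (1 : F)) _ (hN (t / 2))) (hconj _ (L_mem (-1 : F)) _ (hN (t / 2)))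
    rw [L_sk h2, L_sk h2, sk_sub] at this
    convert this using 2 <;> field_simp <;> ring
  have e : a = sk (a 1 2) 0 0 + sk 0 (a 1 0) 0 + sk 0 0 (a 0 0) := by
    conv_lhs => rw [eq_sk h2 ha]
    ext i j
    fin_cases i <;> fin_cases j <;> simp [sk]
  exact e ▸ add_mem (add_mem (hN _) (hL _)) (hD _)

/-- Every central element is in the overgroup. -/
theorem all_cen (D : Cfsg.Agent.Lib.OrthSquareNine.Kron.Data H) (hR : ¬ NoRad H) {a : M3} (ha : ad a = -a) :
    cen a ∈ H := by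
  have h2 := D.two
  let Z : AddSubgroup M3 :=
    { carrier := {a | ad a = -a ∧ cen a ∈ H}
      add_mem' := fun {a b} ha hb => ⟨by rw [ad_add, ha.1, hb.1, neg_add], by rw [← cen_mul]; exact mul_mem ha.2 hb.2⟩
      zero_mem' := ⟨by ext; simp [ad_apply], by rw [cen, kronecker_zero, add_zero]; exact one_mem _⟩
      neg_mem' := fun {a} ha => ⟨by
          show ad (-a) = - -a
          rw [← ha.1, ad_ad, ha.1, neg_neg], by rw [← a9_cen ha.1]; exact D.inv _ ha.2⟩ }
  have hconj : ∀ x ∈ (X : Submonoid M3), ∀ a ∈ Z, x * a * ad x ∈ Z := by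
    intro x hx a ha
    refine ⟨by rw [ad_mul, ad_mul, ad_ad, ha.1, neg_mul, mul_neg, ← mul_assoc], ?_⟩
    have := D.cj_mem (D.right_mem hx) ha.2
    rwa [cj_kron_cen iso_one (iso_of_mem h2 hx) (t := 1) (by rw [one_mul, ad_one, mul_one, one_smul]),
      one_smul] at this
  obtain ⟨a0, hs0, hne, hmem⟩ := exists_cen D hR
  -- a multiple of the nilpotent generator
  obtain ⟨p, hp, hpZ⟩ : ∃ p : F, p ≠ 0 ∧ p • (nU : M3) ∈ Z := by
    have hd : ∀ a ∈ Z, U (1 : F) * a * ad (U 1) - a ∈ Z := fun a ha =>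
      sub_mem (hconj _ (U_mem (1 : F)) a ha) ha
    have h0 : sk (a0 1 2) (a0 1 0) (a0 0 0) ∈ Z := eq_sk h2 hs0 ▸ ⟨hs0, hmem⟩
    rcases ne_or_eq (a0 1 0) 0 with hq | hq
    · refine ⟨a0 1 0, hq, ?_⟩
      have := hd _ (hd _ h0)
      rw [U_sk h2, sk_sub, U_sk h2, sk_sub] at this
      convert this using 1
      rw [smul_nU_eq_sk]
      congr 1 <;> field_simp <;> ring
    rcases ne_or_eq (a0 0 0) 0 with hr | hr
    · refine ⟨-a0 0 0, neg_ne_zero.2 hr, ?_⟩
      have := hd _ h0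
      rw [U_sk h2, sk_sub] at this
      convert this using 1
      rw [smul_nU_eq_sk, hq]
      congr 1 <;> ring
    rw [hq, hr, ← smul_nU_eq_sk] at h0
    refine ⟨a0 1 2, fun e => hne ?_, h0⟩
    rw [eq_sk h2 hs0, hq, hr, ← smul_nU_eq_sk, e, zero_smul]
  have hN : ∀ t : F, sk t 0 0 ∈ Z := by
    have hsq : ∀ c : F, c ≠ 0 → (c ^ 2 * p) • (nU : M3) ∈ Z := by
      intro c hc
      refine ⟨by rw [ad_smul, ad_nU, smul_neg], ?_⟩
      have := D.cj_mem (D.torB c hc) hpZ.2
      rwa [cj_kron_cen iso_one (iso_tor (pow_ne_zero 2 hc)) (t := 1) (by rw [one_mul, ad_one, mul_one, one_smul]),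
        one_smul, mul_smul_comm, smul_mul_assoc, ad_tor, tor_nU (pow_ne_zero 2 hc), smul_smul, mul_comm p] at this
    have hsq' : ∀ c : F, (c ^ 2 * p) • (nU : M3) ∈ Z := fun c => by
      rcases eq_or_ne c 0 with rfl | hc
      · simp
      · exact hsq c hc
    intro t
    have := sub_mem (hsq' ((t / p + 1) / 2)) (hsq' ((t / p - 1) / 2))
    rw [← sub_smul, smul_nU_eq_sk] at this
    convert this using 2
    field_simp
    ring
  exact (show a ∈ Z from skew_span h2 Z hconj hN ha).2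

/-- The root group of a singular line is in the overgroup. -/
def Root (H : Submonoid M9) (u w : V9) : Prop := ((sieg Q9 u w : GL (Fin 3 × Fin 3) F) : M9) ∈ H

theorem root_conj (D : Cfsg.Agent.Lib.OrthSquareNine.Kron.Data H) {g : M9} (hg : g ∈ H) {u w : V9}
    (hu : Q9 u = 0) (hwu : QuadraticMap.polar Q9 w u = 0) (h : Root H u w) : Root H (g *ᵥ u) (g *ᵥ w) := by
  have hgi := D.iso g hg
  have e := conj_sieg (isNondeg D.two) (g := toGL g hgi) (fun x => iso_preserves D.two hgi x) hu hwu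
  have e' := congrArg (fun z : GL (Fin 3 × Fin 3) F => (z : M9)) e
  simp only [Units.val_mul] at e'
  rw [Root, ← coe_toGL g hgi, ← e']
  exact mul_mem (mul_mem hg h) (D.inv g hg)

theorem root_add (D : Cfsg.Agent.Lib.OrthSquareNine.Kron.Data H) {u v w : V9} (hu : Q9 u = 0)
    (hv : QuadraticMap.polar Q9 v u = 0) (hw : QuadraticMap.polar Q9 w u = 0) (h1 : Root H u v) (h3 : Root H u w) :
    Root H u (v + w) := by
  rw [Root, sieg_add_right (isNondeg D.two) hu hv hw, Units.val_mul]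
  exact mul_mem h1 h3

theorem root_neg (D : Cfsg.Agent.Lib.OrthSquareNine.Kron.Data H) {u w : V9} (hu : Q9 u = 0)
    (hw : QuadraticMap.polar Q9 w u = 0) (h : Root H u w) : Root H u (-w) := by
  have hb := (isNondeg D.two).polar_bilinear
  have hw' : QuadraticMap.polar Q9 (-w) u = 0 := by rw [← neg_one_smul F w, hb.smul_left, hw, mul_zero]
  have hz : sieg Q9 u (0 : V9) = 1 := gl_ext fun x => by
    rw [sieg_mulVec (isNondeg D.two) hu (by rw [QuadraticMap.polar_comm, zero_right (isNondeg D.two)]),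
      zero_right (isNondeg D.two), Q_zero (isNondeg D.two), Units.val_one, one_mulVec]
    simp
  have e := sieg_add_right (isNondeg D.two) hu hw hw'
  rw [add_neg_cancel, hz] at e
  have hi : Iso9 ((sieg Q9 u w : GL (Fin 3 × Fin 3) F) : M9) :=
    iso_of_preserves D.two (sieg_isometry (isNondeg D.two) hu hw)
  have : ((sieg Q9 u (-w) : GL (Fin 3 × Fin 3) F) : M9) = a9 ((sieg Q9 u w : GL (Fin 3 × Fin 3) F) : M9) := by
    have e' := congrArg (fun z : GL (Fin 3 × Fin 3) F =>
      a9 ((sieg Q9 u w : GL (Fin 3 × Fin 3) F) : M9) * (z : M9)) e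
    simp only [Units.val_mul, ← mul_assoc, (show a9 _ * _ = 1 from hi), one_mul, Units.val_one, mul_one] at e'
    exact e'.symm
  rw [Root, this]
  exact D.inv _ h

/-- The commutator of the root groups of two lines. -/
theorem root_comm (D : Cfsg.Agent.Lib.OrthSquareNine.Kron.Data H) {u v x z : V9}
    (hu : Q9 u = 0) (hv : Q9 v = 0) (hx : Q9 x = 0) (hz : Q9 z = 0)
    (huv : QuadraticMap.polar Q9 u v = 0) (hxz : QuadraticMap.polar Q9 x z = 0)
    (hux : QuadraticMap.polar Q9 u x = 0) (huz : QuadraticMap.polar Q9 u z = 0)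
    (hvz : QuadraticMap.polar Q9 v z = 0) (hvx : QuadraticMap.polar Q9 v x = 1)
    (h1 : Root H u v) (h3 : Root H x z) : Root H u z := by
  have hQ := isNondeg (F := F) D.two
  have hb := hQ.polar_bilinear
  have hi : Iso9 ((sieg Q9 u v : GL (Fin 3 × Fin 3) F) : M9) :=
    iso_of_preserves D.two (sieg_isometry hQ hu (by rw [B_comm]; exact huv))
  have hc := root_conj D h1 hx (by rw [B_comm]; exact hxz) h3
  have e1 : ((sieg Q9 u v : GL (Fin 3 × Fin 3) F) : M9) *ᵥ x = x + (-1 : F) • u := by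
    rw [lsieg_mulVec hQ hu hv huv, show QuadraticMap.polar Q9 x u = 0 by rw [B_comm]; exact hux,
      show QuadraticMap.polar Q9 x v = 1 by rw [B_comm]; exact hvx]
    module
  have e2 : ((sieg Q9 u v : GL (Fin 3 × Fin 3) F) : M9) *ᵥ z = z := by
    rw [lsieg_mulVec hQ hu hv huv, show QuadraticMap.polar Q9 z u = 0 by rw [B_comm]; exact huz,
      show QuadraticMap.polar Q9 z v = 0 by rw [B_comm]; exact hvz]
    module
  rw [e1, e2] at hc
  have hnu : Q9 ((-1 : F) • u) = 0 := by rw [hQ.smul, hu, mul_zero]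
  have hxu : Q9 (x + (-1 : F) • u) = 0 := by
    rw [Q_add (Q := Q9), hx, hnu, hb.smul_right, B_comm x u, hux]; ring
  have hxz' : QuadraticMap.polar Q9 z x = 0 := by rw [B_comm]; exact hxz
  have hzu : QuadraticMap.polar Q9 z u = 0 := by rw [B_comm]; exact huz
  have key : sieg Q9 (x + (-1 : F) • u) z = sieg Q9 x z * sieg Q9 u (-z) := gl_ext fun y => by
    have hp : QuadraticMap.polar Q9 z (x + (-1 : F) • u) = 0 := by
      rw [hb.add_right, hb.smul_right, hxz', hzu]; ring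
    rw [gl_mul_mulVec, lsieg_mulVec hQ hxu hz (by rw [B_comm]; exact hp),
      lsieg_mulVec hQ hu (by rw [← neg_one_smul F z, hQ.smul, hz, mul_zero])
        (by rw [← neg_one_smul F z, hb.smul_right, huz, mul_zero]),
      lsieg_mulVec hQ hx hz hxz]
    simp only [← neg_one_smul F z, hb.add_right, hb.smul_right, hb.add_left, hb.smul_left, hux, hxz', huz, hzu,
      B_self hQ, hz]
    module
  have hxi : Iso9 ((sieg Q9 x z : GL (Fin 3 × Fin 3) F) : M9) :=
    iso_of_preserves D.two (sieg_isometry hQ hx hxz')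
  rw [Root, key, Units.val_mul] at hc
  have h4 := mul_mem (D.inv _ h3) hc
  rw [← mul_assoc, hxi, one_mul] at h4
  have := root_neg D hu (by rw [← neg_one_smul F z, hb.smul_left, hzu, mul_zero]) h4
  rwa [neg_neg] at this

/-- A pure tensor. -/
def pt (b c : Fin 3 → F) : V9 := fun p => b p.1 * c p.2

theorem kron_pt (A B : M3) (b c : Fin 3 → F) : (A ⊗ₖ B) *ᵥ pt b c = pt (A *ᵥ b) (B *ᵥ c) := by
  funext p
  simp [mulVec, dotProduct, pt, Fintype.sum_prod_type, Finset.sum_mul_sum, mul_mul_mul_comm]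

theorem polar_pt (h2 : (2 : F) ≠ 0) (b c b' c' : Fin 3 → F) :
    QuadraticMap.polar Q9 (pt b c) (pt b' c') = O3.bil b b' * O3.bil c c' := by
  rw [polar_Q9 h2]
  simp [pt, rv, Fintype.sum_prod_type, Fin.sum_univ_three, Fin.rev, O3.bil]
  ring

theorem Q9_pt (h2 : (2 : F) ≠ 0) (b c : Fin 3 → F) : Q9 (pt b c) = O3.bil b b * O3.bil c c / 2 := by
  rw [← polar_pt h2, B_self (isNondeg h2)]
  field_simp

/-- A coordinate vector of the factor. -/
def ev (i : Fin 3) : Fin 3 → F := Pi.single i 1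

theorem bil_ev (i j : Fin 3) : O3.bil (ev (F := F) i) (ev j) = if j = i.rev then 1 else 0 := by
  fin_cases i <;> fin_cases j <;> simp [O3.bil, ev, Fin.rev]

/-- The root groups inside a block. -/
theorem root_block (D : Cfsg.Agent.Lib.OrthSquareNine.Kron.Data H) (hR : ¬ NoRad H) (b c : Fin 3 → F) :
    Root H (pt (ev 0) b) (pt (ev 0) c) := by
  have h2 := D.two
  have hQ := isNondeg (F := F) h2
  set a : M3 := Matrix.of fun l m => c l * b m.rev - b l * c m.rev with ha
  have : ((sieg Q9 (pt (ev 0) b) (pt (ev 0) c) : GL (Fin 3 × Fin 3) F) : M9) = cen a := by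
    refine Matrix.ext fun p r => ?_
    have e : ((sieg Q9 (pt (ev 0) b) (pt (ev 0) c) : GL (Fin 3 × Fin 3) F) : M9) p r =
        (((sieg Q9 (pt (ev 0) b) (pt (ev 0) c) : GL (Fin 3 × Fin 3) F) : M9) *ᵥ Pi.single r 1) p := by
      rw [mulVec_single_one]; rfl
    rw [e, lsieg_mulVec hQ (by rw [Q9_pt h2, bil_ev]; simp [Fin.rev])
      (by rw [Q9_pt h2, bil_ev]; simp [Fin.rev]) (by rw [polar_pt h2, bil_ev]; simp [Fin.rev]),
      polar_single h2, polar_single h2]
    obtain ⟨i, l⟩ := p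
    obtain ⟨k, m⟩ := r
    have hr : cen a (i, l) (k, m) = blk (cen a) i k l m := rfl
    rw [hr, blk_cen]
    fin_cases i <;> fin_cases k <;> simp [pt, ev, rv, Fin.rev, ha, Matrix.one_apply, Pi.single_apply] <;> ring
  rw [Root, this]
  refine all_cen D hR ?_
  ext l m
  simp [ha, ad_apply]
  ring

/-- Every Siegel element is in the overgroup. -/
theorem all_roots (D : Cfsg.Agent.Lib.OrthSquareNine.Kron.Data H) (hR : ¬ NoRad H) {u w : V9}
    (hu : Q9 u = 0) (hw : QuadraticMap.polar Q9 w u = 0) : Root H u w := by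
  classical
  have h2 := D.two
  have hQ := isNondeg (F := F) h2
  have hb := hQ.polar_bilinear
  have hq0 : ∀ (b c : Fin 3 → F), O3.bil b b = 0 → Q9 (pt b c) = 0 := fun b c h => by
    rw [Q9_pt h2, h, zero_mul, zero_div]
  have hq0' : ∀ (b c : Fin 3 → F), O3.bil c c = 0 → Q9 (pt b c) = 0 := fun b c h => by
    rw [Q9_pt h2, h, mul_zero, zero_div]
  have moved : ∀ x ∈ (X : Submonoid M3), ∀ b c, Root H (pt (x *ᵥ ev 0) b) (pt (x *ᵥ ev 0) c) := by
    intro x hx b c
    have := root_conj D (D.left_mem hx) (hq0 (ev 0) b (by simp [bil_ev, Fin.rev]))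
      (by rw [polar_pt h2, bil_ev]; simp [Fin.rev]) (root_block D hR b c)
    rwa [kron_pt, kron_pt, one_mulVec, one_mulVec] at this
  have lastRow : ∀ b c, Root H (pt (ev 2) b) (pt (ev 2) c) := by
    intro b c
    have e : (U (2 : F) * L 1) *ᵥ ev 0 = (-(1 / 2) : F) • ev 2 := by
      funext i; fin_cases i <;> simp [U, L, ev, Matrix.mul_apply, Fin.sum_univ_three] <;> field_simp <;> ring
    have := moved _ (mul_mem (U_mem (2 : F)) (L_mem 1)) ((-2 : F) • b) ((-2 : F) • c)
    have ep : ∀ d : Fin 3 → F, pt ((U (2 : F) * L 1) *ᵥ ev 0) ((-2 : F) • d) = pt (ev 2) d := fun d => by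
      funext p; simp [e, pt]; field_simp
    rwa [ep, ep] at this
  -- mixed lines
  have stepOne : ∀ (i j : Fin 3), i ≠ 1 → j = i.rev → ∀ t : F,
      Root H (pt (ev 2) (ev 1)) (pt (ev 1) (t • ev i)) := by
    intro i j hi hj t
    have main : ∀ s : F, Root H (pt (ev 2) (ev 1)) (pt (L s *ᵥ ev 0) (t • ev i)) := by
      intro s
      have el : O3.bil (L s *ᵥ ev 0) (L s *ᵥ ev 0) = 0 := by
        rw [bil_iso (iso_L h2 s), bil_ev]; simp [Fin.rev]
      have e2l : O3.bil (ev 2) (L s *ᵥ ev 0) = 1 := by simp [O3.bil, L, ev]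
      refine root_comm D (hq0 _ _ (by simp [bil_ev, Fin.rev])) (hq0 (ev 2) (ev i) (by simp [bil_ev, Fin.rev]))
        (hq0 (L s *ᵥ ev 0) (ev j) el) (hq0 _ _ el) ?_ ?_ ?_ ?_ ?_ ?_ (lastRow _ _) (moved _ (L_mem s) _ _)
      · rw [polar_pt h2, bil_ev]; simp [Fin.rev]
      · rw [polar_pt h2, el, zero_mul]
      · rw [polar_pt h2, bil_ev, hj]
        fin_cases i <;> simp [Fin.rev] at hi ⊢
      · rw [polar_pt h2]
        fin_cases i <;> simp [O3.bil, ev] at hi ⊢
      · rw [polar_pt h2]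
        fin_cases i <;> simp [O3.bil, ev] at hi ⊢
      · rw [polar_pt h2, e2l, one_mul, bil_ev, if_pos hj]
    have hd : pt (ev 1) (t • ev i) = (1 / 2 : F) • (pt (L (1 : F) *ᵥ ev 0) (t • ev i) + (-1 : F) • pt (L (-1 : F) *ᵥ ev 0) (t • ev i)) := by
      funext p; obtain ⟨p, q⟩ := p
      fin_cases p <;> simp [pt, L, ev] <;> field_simp <;> ring
    have scale : ∀ s : F, Root H (pt (ev 2) (ev 1)) ((1 / 2 : F) • pt (L s *ᵥ ev 0) (t • ev i)) ∧
        QuadraticMap.polar Q9 ((1 / 2 : F) • pt (L s *ᵥ ev 0) (t • ev i)) (pt (ev 2) (ev 1)) = 0 := by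
      intro s
      have e : (1 / 2 : F) • pt (L s *ᵥ ev 0) (t • ev i) = pt (L s *ᵥ ev 0) (((1 / 2 : F) * t) • ev i) := by
        funext p; simp [pt]; ring
      refine ⟨?_, ?_⟩
      · rw [e]
        have el : O3.bil (L s *ᵥ ev 0) (L s *ᵥ ev 0) = 0 := by
          rw [bil_iso (iso_L h2 s), bil_ev]; simp [Fin.rev]
        have e2l : O3.bil (ev 2) (L s *ᵥ ev 0) = 1 := by simp [O3.bil, L, ev]
        refine root_comm D (hq0 _ _ (by simp [bil_ev, Fin.rev])) (hq0 (ev 2) (ev i) (by simp [bil_ev, Fin.rev]))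
          (hq0 (L s *ᵥ ev 0) (ev j) el) (hq0 _ _ el) ?_ ?_ ?_ ?_ ?_ ?_ (lastRow _ _) (moved _ (L_mem s) _ _)
        · rw [polar_pt h2, bil_ev]; simp [Fin.rev]
        · rw [polar_pt h2, el, zero_mul]
        · rw [polar_pt h2, bil_ev, hj]
          fin_cases i <;> simp [Fin.rev] at hi ⊢
        · rw [polar_pt h2]
          fin_cases i <;> simp [O3.bil, ev] at hi ⊢
        · rw [polar_pt h2]
          fin_cases i <;> simp [O3.bil, ev] at hi ⊢
        · rw [polar_pt h2, e2l, one_mul, bil_ev, if_pos hj]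
      · rw [hb.smul_left, polar_pt h2]
        fin_cases i <;> simp [O3.bil, ev] at hi ⊢
    rw [hd, smul_add, smul_comm (1 / 2 : F) (-1 : F), neg_one_smul]
    refine root_add D (hq0 _ _ (by simp [bil_ev, Fin.rev])) (scale 1).2 ?_ (scale 1).1
      (root_neg D (hq0 _ _ (by simp [bil_ev, Fin.rev])) (scale (-1)).2 (scale (-1)).1)
    rw [← neg_one_smul F, hb.smul_left, (scale (-1)).2, mul_zero]
  -- the lines through the base point
  set π : V9 := pt (ev 0) (ev 0) with hπ
  have hπ0 : Q9 π = 0 := hq0 _ _ (by simp [bil_ev, Fin.rev])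
  have hperp : ∀ w : V9, QuadraticMap.polar Q9 w π = w (2, 2) := by
    intro w
    rw [B_comm, show π = Pi.single (0, 0) 1 by funext p; obtain ⟨i, j⟩ := p; fin_cases i <;> fin_cases j <;> simp [hπ, pt, ev],
      polar_single h2]
    rfl
  have fromMixed : ∀ (i : Fin 3), i ≠ 1 → ∀ t : F, Root H π (pt (ev 1) (t • ev i)) := by
    intro i hi t
    refine root_comm D (v := pt (ev 0) (ev 1)) (x := pt (ev 2) (ev 1)) hπ0 (hq0 _ _ (by simp [bil_ev, Fin.rev]))
      (hq0 _ _ (by simp [bil_ev, Fin.rev]))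
      (hq0' _ _ (by fin_cases i <;> simp [O3.bil, ev] at hi ⊢)) ?_ ?_ ?_ ?_ ?_ ?_
      (root_block D hR _ _) (stepOne i _ hi rfl t) <;> rw [polar_pt h2] <;>
      fin_cases i <;> simp [O3.bil, ev] at hi ⊢
  have hlast0 : ∀ t : F, Root H π (pt (ev 2) (t • ev 0)) := by
    intro t
    refine root_comm D (v := pt (ev 0) (ev 1)) (x := pt (ev 2) (ev 1)) hπ0 (hq0 _ _ (by simp [bil_ev, Fin.rev]))
      (hq0 _ _ (by simp [bil_ev, Fin.rev])) (hq0 _ _ (by simp [bil_ev, Fin.rev])) ?_ ?_ ?_ ?_ ?_ ?_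
      (root_block D hR _ _) (lastRow _ _) <;> rw [polar_pt h2] <;> simp [O3.bil, ev]
  have hlast1 : ∀ t : F, Root H π (pt (ev 2) (t • ev 1)) := by
    intro t
    refine root_comm D (v := pt (ev 0) (ev 2)) (x := pt (ev 2) (ev 0)) hπ0 (hq0 _ _ (by simp [bil_ev, Fin.rev]))
      (hq0 _ _ (by simp [bil_ev, Fin.rev])) (hq0 _ _ (by simp [bil_ev, Fin.rev])) ?_ ?_ ?_ ?_ ?_ ?_
      (root_block D hR _ _) (lastRow _ _) <;> rw [polar_pt h2] <;> simp [O3.bil, ev]
  let E : AddSubgroup V9 :=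
    { carrier := {w | QuadraticMap.polar Q9 w π = 0 ∧ Root H π w}
      add_mem' := fun {a b} ha hb' =>
        ⟨by rw [hb.add_left, ha.1, hb'.1, add_zero], root_add D hπ0 ha.1 hb'.1 ha.2 hb'.2⟩
      zero_mem' := ⟨by rw [hperp]; rfl, by
        have : sieg Q9 π (0 : V9) = 1 := gl_ext fun x => by
          rw [sieg_mulVec hQ hπ0 (by rw [hperp]; rfl), zero_right hQ, Q_zero hQ, Units.val_one, one_mulVec]
          simp
        rw [Root, this, Units.val_one]; exact one_mem _⟩
      neg_mem' := fun {a} ha =>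
        ⟨by rw [← neg_one_smul F, hb.smul_left, ha.1, mul_zero], root_neg D hπ0 ha.1 ha.2⟩ }
  have hE : ∀ (i j : Fin 3) (t : F), ¬ (i = 2 ∧ j = 2) → pt (ev i) (t • ev j) ∈ E := by
    have h0 : ∀ (i j : Fin 3) (t : F), ¬ (i = 2 ∧ j = 2) → QuadraticMap.polar Q9 (pt (ev i) (t • ev j)) π = 0 := by
      intro i j t hij
      rw [hperp]
      fin_cases i <;> fin_cases j <;> simp [pt, ev] at hij ⊢
    intro i j t hij
    refine ⟨h0 i j t hij, ?_⟩
    fin_cases i
    · exact root_block D hR _ _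
    · fin_cases j
      · exact fromMixed 0 (by decide) t
      · -- the anisotropic coordinate
        set v := pt (ev (1 : Fin 3)) (U (1 : F) *ᵥ (t • ev 2)) with hv
        have hm : ∀ (k : Fin 3) (s : F), k ≠ 1 → pt (ev 1) (s • ev k) ∈ E := fun k s hk =>
          ⟨h0 1 k s (fun h => absurd h.1 (by decide)), fromMixed k hk s⟩
        have hvE : v ∈ E := by
          have hmove := root_conj D (D.genB 1).1 hπ0 (hm 2 t (by decide)).1 (hm 2 t (by decide)).2
          rw [hπ, kron_pt, kron_pt, one_mulVec, one_mulVec,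
            show U (1 : F) *ᵥ ev 0 = ev 0 by funext k; fin_cases k <;> simp [U, ev]] at hmove
          exact ⟨by rw [hperp]; simp [hv, pt, ev], hmove⟩
        have : pt (ev 1) (t • ev 1) = v - (pt (ev 1) ((-(t / 2)) • ev 0) + pt (ev 1) (t • ev 2)) := by
          funext p; obtain ⟨p, q⟩ := p
          fin_cases q <;> simp [hv, pt, U, ev] <;> ring
        exact (show pt (ev 1) (t • ev 1) ∈ E from this ▸ sub_mem hvE
          (add_mem (hm 0 _ (by decide)) (hm 2 t (by decide)))).2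
      · exact fromMixed 2 (by decide) t
    · fin_cases j
      · exact hlast0 t
      · exact hlast1 t
      · exact absurd ⟨rfl, rfl⟩ hij
  have hfullπ : ∀ w, QuadraticMap.polar Q9 w π = 0 → Root H π w := by
    intro w hw
    rw [hperp] at hw
    have e : w = ∑ p, pt (ev p.1) (w p • ev p.2) := by
      funext r
      rw [Finset.sum_apply, Finset.sum_eq_single r]
      · simp [pt, ev]
      · intro p _ hp
        obtain ⟨a, b⟩ := p; obtain ⟨c, d⟩ := r
        rcases eq_or_ne c a with rfl | h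
        · have : d ≠ b := fun h => hp (by rw [h])
          simp [pt, ev, this]
        · simp [pt, ev, h]
      · intro h; exact absurd (Finset.mem_univ r) h
    refine (show w ∈ E from e ▸ sum_mem fun p _ => ?_).2
    by_cases hp : p.1 = 2 ∧ p.2 = 2
    · rw [show p = (2, 2) from Prod.ext hp.1 hp.2, hw, zero_smul, show pt (ev (2 : Fin 3)) (0 : Fin 3 → F) = 0 by funext r; simp [pt]]
      exact zero_mem _
    · exact hE p.1 p.2 (w p) hp
  -- the other points
  let Full : V9 → Prop := fun z => Q9 z = 0 ∧ ∀ y, QuadraticMap.polar Q9 y z = 0 → Root H z y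
  have fullConj : ∀ g ∈ H, ∀ z, Full z → Full (g *ᵥ z) := by
    intro g hg z hz
    refine ⟨by rw [iso_preserves h2 (D.iso g hg)]; exact hz.1, fun y hy => ?_⟩
    have e : g *ᵥ (a9 g *ᵥ y) = y := by rw [mulVec_mulVec, (D.iso g hg).right, one_mulVec]
    have hy' : QuadraticMap.polar Q9 (a9 g *ᵥ y) z = 0 := by
      rw [← hy]; conv_rhs => rw [← e]
      exact (B_map (g := toGL g (D.iso g hg)) (fun x => iso_preserves h2 (D.iso g hg) x) _ _).symm
    have := root_conj D hg hz.1 hy' (hz.2 _ hy')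
    rwa [e] at this
  have fullSmul : ∀ (c : F), c ≠ 0 → ∀ z, Full z → Full (c • z) := by
    intro c hc z hz
    refine ⟨by rw [hQ.smul, hz.1, mul_zero], fun y hy => ?_⟩
    have hyz : QuadraticMap.polar Q9 y z = 0 := by
      rw [hb.smul_right] at hy; exact (mul_eq_zero.1 hy).resolve_left hc
    have hyz' : QuadraticMap.polar Q9 (c • y) z = 0 := by rw [hb.smul_left, hyz, mul_zero]
    have e : sieg Q9 (c • z) y = sieg Q9 z (c • y) := gl_ext fun x => by
      rw [sieg_mulVec hQ (by rw [hQ.smul, hz.1, mul_zero]) hy, sieg_mulVec hQ hz.1 hyz', hQ.smul, hb.smul_right,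
        hb.smul_right]
      module
    rw [Root, e]; exact hz.2 _ hyz'
  have fπ : Full π := ⟨hπ0, hfullπ⟩
  set π' : V9 := pt (ev 2) (ev 2) with hπ'
  have fπ' : Full π' := by
    have hm := mul_mem (U_mem (2 : F)) (L_mem (1 : F))
    have h4 : (4 : F) ≠ 0 := by rw [show (4 : F) = 2 * 2 by norm_num]; exact mul_ne_zero h2 h2
    have := fullSmul 4 h4 _
      (fullConj _ (D.both_mem hm hm) π fπ)
    rw [hπ, kron_pt] at this
    convert this using 1
    funext p; obtain ⟨i, j⟩ := p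
    fin_cases i <;> fin_cases j <;>
      simp [hπ', pt, U, L, ev, Matrix.mul_apply, Fin.sum_univ_three, h2, h4] <;> field_simp <;> norm_num [h2, h4] <;>
      ring
  have step : ∀ {a x z : V9}, Full a → Full x → Q9 z = 0 → QuadraticMap.polar Q9 x a ≠ 0 →
      QuadraticMap.polar Q9 z a ≠ 0 → Full z := by
    intro a x z ha hx hz hxa hza
    obtain ⟨x', hx'⟩ : ∃ v : V9, v = (QuadraticMap.polar Q9 x a)⁻¹ • x := ⟨_, rfl⟩
    obtain ⟨z', hz'⟩ : ∃ v : V9, v = (QuadraticMap.polar Q9 z a)⁻¹ • z := ⟨_, rfl⟩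
    have fx : Full x' := hx' ▸ fullSmul _ (inv_ne_zero hxa) x hx
    have hxa' : QuadraticMap.polar Q9 x' a = 1 := by rw [hx', hb.smul_left, inv_mul_cancel₀ hxa]
    have hza' : QuadraticMap.polar Q9 z' a = 1 := by rw [hz', hb.smul_left, inv_mul_cancel₀ hza]
    have hzq : Q9 z' = 0 := by rw [hz', hQ.smul, hz, mul_zero]
    have hw : QuadraticMap.polar Q9 (z' + (-1 : F) • x') a = 0 := by
      rw [hb.add_left, hb.smul_left, hza', hxa']; ring
    have := fullConj _ (ha.2 _ hw) x' fx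
    have hQd : QuadraticMap.polar Q9 x' (z' + (-1 : F) • x') + Q9 (z' + (-1 : F) • x') = 0 := by
      rw [hb.add_right, hb.smul_right, B_self hQ, Q_add (Q := Q9), hQ.smul, fx.1, hzq, hb.smul_right, B_comm z' x']
      ring
    rw [sieg_mulVec hQ ha.1 hw, hxa', one_smul, mul_one,
      show -QuadraticMap.polar Q9 x' (z' + (-1 : F) • x') - Q9 (z' + (-1 : F) • x') = 0 by linear_combination -hQd,
      zero_smul, add_zero, neg_one_smul, add_comm x', neg_add_cancel_right] at this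
    have := fullSmul _ hza z' this
    rwa [hz', smul_smul, mul_inv_cancel₀ hza, one_smul] at this
  have hππ' : QuadraticMap.polar Q9 π π' = 1 := by rw [polar_pt h2]; simp [O3.bil, ev]
  have allFull : ∀ z, z ≠ 0 → Q9 z = 0 → Full z := by
    intro z hz0 hz
    by_cases h : QuadraticMap.polar Q9 z π ≠ 0
    · exact step fπ fπ' hz (by rw [B_comm, hππ']; exact one_ne_zero) h
    by_cases h' : QuadraticMap.polar Q9 z π' ≠ 0
    · exact step fπ' fπ hz (by rw [hππ']; exact one_ne_zero) h'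
    simp only [not_not] at h h'
    -- a point seeing both
    obtain ⟨-, y, hy⟩ := hQ.nondegenerate z hz0
    obtain ⟨y0, hy0⟩ : ∃ v : V9, v = y + (-QuadraticMap.polar Q9 y π') • π + (-QuadraticMap.polar Q9 y π) • π' :=
      ⟨_, rfl⟩
    have hππ : QuadraticMap.polar Q9 π π = 0 := by rw [B_self hQ, hπ0, mul_zero]
    have hπ'π' : QuadraticMap.polar Q9 π' π' = 0 := by rw [B_self hQ, fπ'.1, mul_zero]
    have hy0π : QuadraticMap.polar Q9 y0 π = 0 := by
      rw [hy0, hb.add_left, hb.add_left, hb.smul_left, hb.smul_left, hππ, B_comm π' π, hππ']; ring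
    have hy0π' : QuadraticMap.polar Q9 y0 π' = 0 := by
      rw [hy0, hb.add_left, hb.add_left, hb.smul_left, hb.smul_left, hππ', hπ'π']; ring
    obtain ⟨a, ha⟩ : ∃ v : V9, v = y0 + π + (-Q9 y0) • π' := ⟨_, rfl⟩
    have haπ : QuadraticMap.polar Q9 a π = -Q9 y0 := by
      rw [ha, hb.add_left, hb.add_left, hb.smul_left, hy0π, hππ, B_comm π' π, hππ']; ring
    have haπ' : QuadraticMap.polar Q9 a π' = 1 := by
      rw [ha, hb.add_left, hb.add_left, hb.smul_left, hy0π', hπ'π', hππ']; ring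
    have haQ : Q9 a = 0 := by
      rw [ha, Q_add (Q := Q9), Q_add (Q := Q9), hb.add_left, hQ.smul, hb.smul_right, hb.smul_right, fπ'.1, hπ0,
        hy0π, hy0π', hππ']
      ring
    have hza : QuadraticMap.polar Q9 z a ≠ 0 := by
      rw [ha, hy0, hb.add_right, hb.add_right, hb.add_right, hb.add_right, hb.smul_right, hb.smul_right,
        hb.smul_right, h, h', B_comm z y]
      simpa [B_comm y z] using hy
    have fa : Full a := step fπ' fπ haQ (by rw [hππ']; exact one_ne_zero) (by rw [haπ']; exact one_ne_zero)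
    exact step fa fπ' hz (by rw [B_comm, haπ']; exact one_ne_zero) hza
  rcases eq_or_ne u 0 with rfl | hu0
  · have : sieg Q9 (0 : V9) w = 1 := gl_ext fun x => by
      rw [sieg_mulVec hQ hu hw, zero_right hQ, Units.val_one, one_mulVec]; simp
    rw [Root, this, Units.val_one]; exact one_mem _
  · exact (allFull u hu0 hu).2 w hw

end Cfsg.Agent.Lib.OrthSquareNine.Radical
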