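import Cfsg.Agent.Lib.OrthSquareNine.Fused
import Cfsg.Agent.Lib.OrthSquareNine.Radical

/-!
An overgroup without new radical elements lies in the stabiliser: root elements of one factor fix only the base
coset, so the averaged projection agrees with the projection on skew operators.
Owner: helper96.
-/

set_option autoImplicit false
set_option linter.unusedSectionVars false

namespace Cfsg.Agent.Lib.OrthSquareNine.Trace

open Matrix Kronecker Cfsg.Agent.Lib.OrthSquareNine.O3 Cfsg.Agent.Lib.OrthSquareNine.Kron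
  Cfsg.Agent.Lib.OrthSquareNine.Fusion Cfsg.Agent.Lib.OrthSquareNine.Fused Cfsg.Agent.Lib.OrthSquareNine.Radical

variable {F : Type*} [Field F] [Finite F]

local notation "M3" => Matrix (Fin 3) (Fin 3) F
local notation "M9" => Matrix (Fin 3 × Fin 3) (Fin 3 × Fin 3) F

variable {H : Submonoid (Matrix (Fin 3 × Fin 3) (Fin 3 × Fin 3) F)}

theorem iso_ne_zero {B : M3} (hB : Iso B) : B ≠ 0 := by
  rintro rfl
  rw [Iso, mul_zero] at hB
  exact zero_ne_one hB

theorem left_cancel_kron {A C B : M3} (hB : B ≠ 0) (h : A ⊗ₖ B = C ⊗ₖ B) : A = C := by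
  obtain ⟨j, l, hjl⟩ : ∃ j l, B j l ≠ 0 := by
    by_contra! hc
    exact hB (Matrix.ext hc)
  ext i k
  exact mul_right_cancel₀ hjl (congrFun (congrFun h (i, j)) (k, l))

theorem right_cancel_kron {A C B : M3} (hB : B ≠ 0) (h : B ⊗ₖ A = B ⊗ₖ C) : A = C := by
  obtain ⟨j, l, hjl⟩ : ∃ j l, B j l ≠ 0 := by
    by_contra! hc
    exact hB (Matrix.ext hc)
  ext i k
  exact mul_left_cancel₀ hjl (congrFun (congrFun h (j, i)) (l, k))

/-- The truncated logarithm. -/
def lg (Y : M9) : M9 := (2 : F) • Y - (1 / 2 : F) • (Y * Y) - (3 / 2 : F) • 1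

theorem lg_cj {g : M9} (hg : Iso9 g) (Y : M9) : lg (cj g Y) = cj g (lg Y) := by
  simp only [lg, map_sub, map_smul, cj_prod hg, cj_unit hg]

theorem lg_U (h2 : (2 : F) ≠ 0) (s : F) :
    lg (U s ⊗ₖ (1 : M3)) = s • (nU ⊗ₖ (1 : M3)) := by
  rw [lg, ← mul_kronecker_mul, U_mul h2, mul_one, show (1 : M9) = (1 : M3) ⊗ₖ (1 : M3) from one_kronecker_one.symm,
    ← smul_kronecker, ← smul_kronecker, ← smul_kronecker, ← smul_kronecker]
  refine blk_ext fun i k => ?_
  have hsub : ∀ P Q : M9, blk (P - Q) i k = blk P i k - blk Q i k := fun P Q => rfl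
  simp only [hsub, blk_smul, blk_kron]
  fin_cases i <;> fin_cases k <;> simp [U, nU, Matrix.one_apply, smul_smul, ← sub_smul] <;>
    first
      | (field_simp; ring1)
      | (match_scalars <;> field_simp <;> ring1)

/-- A root element of one factor fixes only the base coset. -/
theorem str_of_fused (D : Cfsg.Agent.Lib.OrthSquareNine.Kron.Data H) (hR : NoRad H) {g : M9} (hg : g ∈ H) {a : F}
    (ha : a ≠ 0) (hs : Str (cj (a9 g) (U a ⊗ₖ (1 : M3)))) : Str g := by
  have h2 := D.two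
  by_contra hns
  obtain ⟨-, x, hx, y, hy, b, c, hb, hc, he⟩ := mixed_of_fused D hR hg hns ha hs
  set h := g * (x ⊗ₖ y) with hh
  have hhH : h ∈ H := mul_mem hg (D.both_mem hx hy)
  have hhi := D.iso h hhH
  have hhns : ¬ Str h := fun hh' => hns (by
    have := hh'.mul (str_kron (ad x) (ad y))
    rwa [hh, mul_assoc, ← mul_kronecker_mul, (iso_of_mem h2 hx).right, (iso_of_mem h2 hy).right, one_kronecker_one,
      mul_one] at this)
  -- the images of the root group
  have key : ∀ s : F, ∃ A B : M3, Iso B ∧ (B - 1) ^ 3 = 0 ∧ cj h (U s ⊗ₖ (1 : M3)) = A ⊗ₖ B ∧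
      ∃ α : F, A = U α := by
    intro s
    set v := cj h (U s ⊗ₖ (1 : M3)) with hv
    have hvH : v ∈ H := D.cj_mem hhH (D.genA s).1
    have hvu : v * (U a ⊗ₖ (1 : M3)) = (U a ⊗ₖ (1 : M3)) * v := by
      rw [← he, hv, ← cj_prod hhi, ← cj_prod hhi]
      congr 1
      rw [← mul_kronecker_mul, ← mul_kronecker_mul, one_mul, mul_one, U_mul h2, U_mul h2, add_comm]
    have hvs : Str v := str_of_map D hR hvH ha hvu
    have hvp : v ^ ringChar F = 1 := by
      rw [hv, ← cj_pow hhi, kron_pow, U_pow h2, CharP.cast_eq_zero, zero_mul, U_zero, one_pow, one_kronecker_one,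
        cj_unit hhi]
    have : Fact (ringChar F).Prime := ⟨CharP.char_is_prime F _⟩
    have hp : Odd (ringChar F) := by
      refine (Fact.out : (ringChar F).Prime).odd_of_ne_two fun e => h2 ?_
      have : ((2 : ℕ) : F) = 0 := by rw [← e]; exact CharP.cast_eq_zero F _
      simpa using this
    obtain ⟨A, B, hA, hB, hA3, hB3, hAB⟩ := unipotent_factors hp (D.iso v hvH) hvs hvp
    refine ⟨A, B, hB, hB3, hAB, ?_⟩
    rw [hAB, ← mul_kronecker_mul, ← mul_kronecker_mul, mul_one, one_mul] at hvu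
    exact eq_U_of_comm hA h2 hA3 (comm_nU h2 ha (left_cancel_kron (iso_ne_zero hB) hvu))
  obtain ⟨A1, B1, hB1, hB13, e1, α1, rfl⟩ := key 1
  obtain ⟨m, hm, β1, hβ1⟩ := exists_conj_U h2 hB1 hB13
  have hmi := iso_of_mem h2 hm
  set k := ((1 : M3) ⊗ₖ ad m) * h with hk
  have hkH : k ∈ H := mul_mem (D.right_mem (ad_mem hm)) hhH
  have hki := D.iso k hkH
  have hkns : ¬ Str k := fun hk' => hhns (by
    have := (str_kron 1 m).mul hk'
    rwa [hk, ← mul_assoc, ← mul_kronecker_mul, mul_one, hmi.right, one_kronecker_one, one_mul] at this)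
  have hk1 : cj k (U 1 ⊗ₖ (1 : M3)) = U α1 ⊗ₖ U β1 := by
    rw [hk, cj_mul, e1, cj_kron, one_mul, ad_one, mul_one, ad_ad, hβ1]
  have hmul : ∀ {z w : M9}, cj k z = w → k * z = w * k := fun {z w} e => by
    rw [← e, cj_apply, mul_assoc (k * z), hki, mul_one]
  have hβ0 : β1 ≠ 0 := fun e => hkns (str_of_map D hR hkH (one_ne_zero (α := F)) (b := α1)
    (hmul (by rw [hk1, e, U_zero])))
  have all : ∀ s : F, ∃ α β : F, cj k (U s ⊗ₖ (1 : M3)) = U α ⊗ₖ U β := by
    intro s
    obtain ⟨A, B, hB, hB3, e, α, rfl⟩ := key s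
    have e' : cj k (U s ⊗ₖ (1 : M3)) = U α ⊗ₖ (ad m * B * m) := by
      rw [hk, cj_mul, e, cj_kron, one_mul, ad_one, mul_one, ad_ad]
    set B' := ad m * B * m
    have hB' : Iso B' := (hmi.ad'.mul hB).mul hmi
    have hB'3 : (B' - 1) ^ 3 = 0 := by
      have : B' - 1 = ad m * (B - 1) * m := by rw [mul_sub, mul_one, sub_mul, hmi]
      rw [this, pow_succ, pow_two]
      calc ad m * (B - 1) * m * (ad m * (B - 1) * m) * (ad m * (B - 1) * m)
          = ad m * ((B - 1) * (m * ad m) * (B - 1) * (m * ad m) * (B - 1)) * m := by noncomm_ring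
        _ = 0 := by
          rw [hmi.right, mul_one, mul_one, show (B - 1) * (B - 1) * (B - 1) = (B - 1) ^ 3 by
            rw [pow_succ, pow_two], hB3, mul_zero, zero_mul]
    have hc : B' * U β1 = U β1 * B' := by
      have h' := congrArg (cj k) (show (U s ⊗ₖ (1 : M3)) * (U 1 ⊗ₖ (1 : M3)) = (U 1 ⊗ₖ (1 : M3)) * (U s ⊗ₖ (1 : M3)) by
        rw [← mul_kronecker_mul, ← mul_kronecker_mul, U_mul h2, U_mul h2, add_comm])
      rw [cj_prod hki, cj_prod hki, e', hk1, ← mul_kronecker_mul, ← mul_kronecker_mul, U_mul h2, U_mul h2,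
        add_comm α1] at h'
      exact right_cancel_kron (iso_ne_zero (iso_U h2 _)) h'
    obtain ⟨β, hβ⟩ := eq_U_of_comm hB' h2 hB'3 (comm_nU h2 hβ0 hc)
    exact ⟨α, β, by rw [e', hβ]⟩
  -- the logarithms are linear in the parameter
  set Y := cj k (nU ⊗ₖ (1 : M3)) with hY
  have lin : ∀ s α β : F, cj k (U s ⊗ₖ (1 : M3)) = U α ⊗ₖ U β →
      s * Y (1, 0) (2, 0) = α ∧ s * Y (0, 1) (0, 2) = β ∧ s * Y (0, 1) (2, 2) = α ^ 2 * β := by
    intro s α β e
    have h' : s • Y = lg (U α ⊗ₖ U β) := by rw [← e, lg_cj hki, lg_U h2, map_smul]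
    rw [lg, ← mul_kronecker_mul, U_mul h2, U_mul h2] at h'
    have q1 := congrFun (congrFun h' (1, 0)) (2, 0)
    have q2 := congrFun (congrFun h' (0, 1)) (0, 2)
    have q3 := congrFun (congrFun h' (0, 1)) (2, 2)
    simp [U, Matrix.one_apply] at q1 q2 q3
    refine ⟨?_, ?_, ?_⟩
    · rw [q1]; field_simp; ring
    · rw [q2]; field_simp; ring
    · rw [q3]; field_simp; ring
  obtain ⟨eα, eβ, eγ⟩ := lin 1 α1 β1 hk1
  rw [one_mul] at eα eβ eγ
  have hzero := coeff_zero D.five 0 (-(α1 ^ 2 * β1)) 0 (α1 ^ 2 * β1) 0 fun s => by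
    obtain ⟨α, β, e⟩ := all s
    obtain ⟨fα, fβ, fγ⟩ := lin s α β e
    rw [eα] at fα
    rw [eβ] at fβ
    rw [eγ, ← fα, ← fβ] at fγ
    linear_combination -fγ
  have hα : α1 = 0 := pow_eq_zero_iff two_ne_zero |>.1 ((mul_eq_zero.1 hzero.2.2.2.1).resolve_right hβ0)
  refine hkns ?_
  have h' := str_of_map_swap D hR (D.inv k hkH) hβ0 (b := 1) (by
    have := hmul hk1
    rw [hα, U_zero] at this
    have := congrArg (fun Z => a9 k * Z * a9 k) this
    simp only [← mul_assoc, (show a9 k * k = 1 from hki), one_mul] at this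
    simp only [mul_assoc, hki.right, mul_one] at this
    exact this.symm)
  have := h'.a9'
  rwa [a9_a9] at this

end Cfsg.Agent.Lib.OrthSquareNine.Trace
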